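/-
SO_3(q) inside SU_3(q), q odd: homologies with rational centres, and an element outside the rational unipotent
group at a rational flag gives all transvections.
-/
import Cfsg.Agent.Lib.MaxCl.SU3.Subfield.Step
import Cfsg.Agent.Lib.MaxCl.UnitaryGen

set_option autoImplicit false

namespace Cfsg.Agent.MaxCl.SU3.Orth

open Cfsg.Agent.MaxCl Cfsg.Agent.MaxCl.Unit Cfsg.Agent.MaxCl.SU3.Subfield
open scoped MatrixGroups Matrix

variable {ι : Type} [Fintype ι] [DecidableEq ι] {F : Type*} [Field F]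

/-- the standing hypotheses: `F₀` is the fixed field of the involution -/
structure Ctx (σ : F ≃+* F) (f : (ι → F) → (ι → F) → F) (F₀ : _root_.Subfield F) (P : GL ι F)
    (M : Subgroup (GL ι F)) : Prop where
  unit : Cfsg.Geo.IsUnitaryForm σ f
  three : Fintype.card ι = 3
  two : (2 : F) ≠ 0
  rat : ∀ x ∈ ratVec F₀ P, ∀ y ∈ ratVec F₀ P, f x y ∈ F₀
  fixed : ∀ a, a ∈ F₀ ↔ σ a = a
  big : 7 ≤ Nat.card F₀
  iso : M ≤ uiso f
  sl : M ≤ Cfsg.Geo.specialLinear ι F
  rat_mem : ∀ g ∈ uiso f, g ∈ Cfsg.Geo.specialLinear ι F → (∀ x ∈ ratVec F₀ P, act g x ∈ ratVec F₀ P) → g ∈ M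

/-- `g` is the homology with centre `a` -/
def IsHom (f : (ι → F) → (ι → F) → F) (g : GL ι F) (a : ι → F) : Prop :=
  ∀ x, act g x = -x + (2 * f x a / f a a) • a

variable {σ : F ≃+* F} {f : (ι → F) → (ι → F) → F} {F₀ : _root_.Subfield F} {P : GL ι F}
  {M : Subgroup (GL ι F)} {l l' m : ι → F} {d : F}

section General

variable (hU : Cfsg.Geo.IsUnitaryForm σ f)
include hU

theorem isHom_centre {g : GL ι F} {a : ι → F} (ha : f a a ≠ 0) (h : IsHom f g a) : act g a = a := by
  rw [h a, mul_div_cancel_right₀ _ ha]; module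

theorem isHom_perp {g : GL ι F} {a x : ι → F} (h : IsHom f g a) (hx : f x a = 0) : act g x = -x := by
  rw [h x, hx]; simp

theorem isHom_sq {g : GL ι F} {a : ι → F} (ha : f a a ≠ 0) (h : IsHom f g a) : g * g = 1 :=
  Cfsg.Agent.MaxCl.gl_ext fun x => by
    have e : f (act g x) a = f x a := by
      rw [h x, add_left hU, smul_left hU, ← neg_one_smul F x, smul_left hU, div_mul_cancel₀ _ ha]; ring
    rw [act_mul, act_one, h (act g x), e, h x]; module

/-- a fixed vector of a homology is a multiple of the centre -/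
theorem isHom_fixed (h2 : (2 : F) ≠ 0) {g : GL ι F} {a x : ι → F} (h : IsHom f g a) (hx : act g x = x) :
    x = (f x a / f a a) • a := by
  refine smul_right_injective _ h2 ?_
  show (2 : F) • x = (2 : F) • ((f x a / f a a) • a)
  rw [h x] at hx
  rw [smul_smul, ← mul_div_assoc]
  linear_combination (norm := module) -hx

theorem isHom_conj {g h : GL ι F} (hh : h ∈ uiso f) {a : ι → F} (hg : IsHom f g a) :
    IsHom f (h * g * h⁻¹) (act h a) := fun x => by
  rw [act_mul, act_mul, hg (act h⁻¹ x), map_add, map_neg, map_smul, act_act_inv, mem_uiso.1 hh a a]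
  congr 3
  rw [← mem_uiso.1 hh, act_act_inv]

variable [Fintype F]

theorem exists_hom (hn : Fintype.card ι = 3) {a : ι → F} (ha : f a a ≠ 0) :
    ∃ g ∈ uiso f, g ∈ Cfsg.Geo.specialLinear ι F ∧ IsHom f g a := by
  obtain ⟨g, hg, hq⟩ := exists_qref hU ha (l := -1) (by rw [map_neg, map_one]; ring)
  have hneg : ∀ x, act (-g) x = -act g x := fun x => by
    rw [act_apply, act_apply, Units.val_neg, Matrix.neg_mulVec]
  refine ⟨-g, mem_uiso.2 fun x y => ?_, ?_, fun x => ?_⟩
  · rw [hneg, hneg, ← neg_one_smul F, ← neg_one_smul F (act g y), smul_left hU, smul_right hU,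
      mem_uiso.1 hg, map_neg, map_one]
    ring
  · refine MonoidHom.mem_ker.2 (Units.ext ?_)
    show ((-g : GL ι F) : Matrix ι ι F).det = 1
    rw [Units.val_neg, Matrix.det_neg, det_qref hU ha hq, hn]
    ring
  · rw [hneg, hq x]
    match_scalars <;> ring

omit [Fintype F] in
/-- an isometry fixing `l` and `m` modulo `l` is unipotent -/
theorem exists_eq_heis (hf : Frame f l l' m d) {h : GL ι F} (hh : h ∈ uiso f) (hl : act h l = l) {w : F}
    (hm : act h m = m + w • l) : ∃ s z, Par σ d s z ∧ h = heis hU l m s z := by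
  have e0 : f (act h l') l = 1 := by
    have := mem_uiso.1 hh l' l; rwa [hl, hf.l'l hU] at this
  have e1 := hf.expand hU (act h l')
  rw [e0, one_smul] at e1
  obtain ⟨S, hS⟩ : ∃ S, S = f (act h l') m / d := ⟨_, rfl⟩
  rw [← hS] at e1
  obtain ⟨Z, hZ⟩ : ∃ Z, Z = f (act h l') l' := ⟨_, rfl⟩
  rw [← hZ] at e1
  have h0 := mem_uiso.1 hh l' l'
  have h1 := mem_uiso.1 hh m l'
  rw [e1, hf.l'l'] at h0
  rw [hm, e1, hf.ml' hU] at h1
  simp only [add_left hU, add_right hU, smul_left hU, smul_right hU, hf.ll, hf.ll', hf.l'l hU, hf.l'l',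
    hf.lm, hf.l'm, hf.ml hU, hf.ml' hU, hf.mm] at h0 h1
  refine ⟨S, Z, by unfold Par; linear_combination h0, hf.gl_ext hU (by rw [hl, heis_l hU hf])
    (by rw [heis_l' hU hf, e1]; module) ?_⟩
  rw [hm, heis_m hU hf, show w = -(d * σ S) by linear_combination h1]
  module

omit [Fintype F] in
theorem par_of_mem (hf : Frame f l l' m d) {s z : F} (h : heis hU l m s z ∈ uiso f) : Par σ d s z := by
  have h0 := mem_uiso.1 h l' l'
  rw [heis_l' hU hf, hf.l'l'] at h0
  simp only [add_left hU, add_right hU, smul_left hU, smul_right hU, hf.ll, hf.ll', hf.l'l hU, hf.l'l',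
    hf.lm, hf.l'm, hf.ml hU, hf.ml' hU, hf.mm] at h0
  unfold Par; linear_combination h0

omit [Fintype F] in
theorem coords (hf : Frame f l l' m d) {v : ι → F} (hvv : f v v = 0) (hvl : f v l ≠ 0) :
    ∃ s z : F, Par σ d s z ∧ v = f v l • act (heis hU l m s z) l' := by
  obtain ⟨w, hw⟩ : ∃ w, w = (f v l)⁻¹ • v := ⟨_, rfl⟩
  have hv : v = f v l • w := by rw [hw, smul_inv_smul₀ hvl]
  have hwl : f w l = 1 := by rw [hw, smul_left hU, inv_mul_cancel₀ hvl]
  have hww : f w w = 0 := by rw [hw, smul_left hU, smul_right hU, hvv, mul_zero, mul_zero]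
  have e := hf.expand hU w
  rw [hwl, one_smul] at e
  have e' : act (heis hU l m (f w m / d) (f w l')) l' = w := by
    rw [heis_l' hU hf]; conv_rhs => rw [e]
    module
  refine ⟨f w m / d, f w l', ?_, by rw [e']; exact hv⟩
  generalize f w l' = T, f w m / d = S at e
  rw [e] at hww
  unfold Par
  simp only [add_left hU, add_right hU, smul_left hU, smul_right hU, hf.ll, hf.ll', hf.l'l hU, hf.l'l',
    hf.lm, hf.l'm, hf.ml hU, hf.ml' hU, hf.mm] at hww
  linear_combination hww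

end General

variable (C : Ctx σ f F₀ P M)
include C

theorem real {a : F} (ha : a ∈ F₀) : σ a = a := (C.fixed a).1 ha
theorem mem_two : (2 : F) ∈ F₀ := by
  rw [← one_add_one_eq_two]; exact F₀.add_mem F₀.one_mem F₀.one_mem

theorem symm {x y : ι → F} (hx : x ∈ ratVec F₀ P) (hy : y ∈ ratVec F₀ P) : f y x = f x y := by
  rw [← herm' C.unit x y, real C (C.rat x hx y hy)]

theorem rswap (R : RFrame f F₀ P l l' m d) : RFrame f F₀ P l' l m d :=
  ⟨R.frame.swap C.unit, R.rl', R.rl, R.rm⟩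

theorem d_mem (R : RFrame f F₀ P l l' m d) : d ∈ F₀ := R.frame.mm ▸ C.rat _ R.rm _ R.rm

theorem skew_ne (hne : ∃ a, σ a ≠ a) : ∃ c, c ≠ 0 ∧ c + σ c = 0 ∧ c ∉ F₀ := by
  obtain ⟨a, ha⟩ := hne
  have h0 : a - σ a ≠ 0 := sub_ne_zero.2 (Ne.symm ha)
  refine ⟨a - σ a, h0, sub_skew a C.unit.involutive, fun h => h0 ?_⟩
  have h1 := sub_skew a C.unit.involutive
  rw [real C h] at h1
  exact (mul_eq_zero.1 (show 2 * (a - σ a) = 0 by linear_combination h1)).resolve_left C.two

/-- the rational unipotent parameter -/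
theorem sym_par (R : RFrame f F₀ P l l' m d) {s : F} (hs : s ∈ F₀) : Par σ d s (-(d * s * s) / 2) := by
  unfold Par
  rw [map_div₀, map_neg, map_mul, map_mul, real C hs, real C (d_mem C R), map_ofNat]
  field_simp [C.two]
  ring

theorem sym_rat (R : RFrame f F₀ P l l' m d) {s : F} (hs : s ∈ F₀) {x : ι → F} (hx : x ∈ ratVec F₀ P) :
    act (heis C.unit l m s (-(d * s * s) / 2)) x ∈ ratVec F₀ P := by
  rw [act_heis C.unit R.frame, real C hs]
  exact Submodule.sub_mem _ (Submodule.add_mem _ hx (ratVec_smul (C.rat _ hx _ R.rl)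
    (Submodule.add_mem _ (ratVec_smul hs R.rm) (ratVec_smul (F₀.div_mem (F₀.neg_mem
      (F₀.mul_mem (F₀.mul_mem (d_mem C R) hs) hs)) (mem_two C)) R.rl))))
    (ratVec_smul (F₀.mul_mem hs (C.rat _ hx _ R.rm)) R.rl)

theorem sym_mem (R : RFrame f F₀ P l l' m d) {s : F} (hs : s ∈ F₀) :
    heis C.unit l m s (-(d * s * s) / 2) ∈ M :=
  C.rat_mem _ (heis_mem C.unit R.frame (sym_par C R hs)) (heis_det C.unit R.frame _ _) fun _ => sym_rat C R hs

/-- a rational isometry moves frames to frames -/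
theorem rframe_map (R : RFrame f F₀ P l l' m d) {g : GL ι F} (hg : g ∈ uiso f)
    (hr : ∀ x ∈ ratVec F₀ P, act g x ∈ ratVec F₀ P) :
    RFrame f F₀ P (act g l) (act g l') (act g m) d := by
  have e := mem_uiso.1 hg
  exact ⟨⟨C.three, (e _ _).trans R.frame.ll, (e _ _).trans R.frame.l'l', (e _ _).trans R.frame.ll',
    (e _ _).trans R.frame.lm, (e _ _).trans R.frame.l'm, (e _ _).trans R.frame.mm, R.frame.d0⟩,
    hr _ R.rl, hr _ R.rl', hr _ R.rm⟩

variable [Fintype F]

theorem hom_mem {a : ι → F} (ha : a ∈ ratVec F₀ P) (h0 : f a a ≠ 0) :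
    ∃ g ∈ M, IsHom f g a ∧ ∀ x ∈ ratVec F₀ P, act g x ∈ ratVec F₀ P := by
  obtain ⟨g, hg, hd, hh⟩ := exists_hom C.unit C.three h0
  have hr : ∀ x ∈ ratVec F₀ P, act g x ∈ ratVec F₀ P := fun x hx => by
    rw [hh x]
    exact Submodule.add_mem _ (Submodule.neg_mem _ hx)
      (ratVec_smul (F₀.div_mem (F₀.mul_mem (mem_two C) (C.rat _ hx _ ha)) (C.rat _ ha _ ha)) ha)
  exact ⟨g, C.rat_mem g hg hd hr, hh, hr⟩

/-- the elements interchanging the two points of a frame -/
theorem exists_swap (R : RFrame f F₀ P l l' m d) {t : F} (ht : t ∈ F₀) (ht0 : t ≠ 0) :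
    ∃ g ∈ M, IsHom f g (l + t • l') ∧ act g l = t • l' ∧ act g l' = t⁻¹ • l ∧ act g m = -m := by
  have hU := C.unit
  have hf := R.frame
  have hQ : f (l + t • l') (l + t • l') = 2 * t := by
    simp only [add_left hU, add_right hU, smul_left hU, smul_right hU, hf.ll, hf.ll', hf.l'l hU, hf.l'l',
      real C ht]
    ring
  obtain ⟨g, hg, hh, -⟩ := hom_mem C (Submodule.add_mem _ R.rl (ratVec_smul ht R.rl'))
    (by rw [hQ]; exact mul_ne_zero C.two ht0)
  have h2 := C.two
  refine ⟨g, hg, hh, ?_, ?_, ?_⟩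
  · rw [hh l, hQ, add_right hU, smul_right hU, hf.ll, hf.ll', real C ht]
    match_scalars <;> field_simp <;> ring
  · rw [hh l', hQ, add_right hU, smul_right hU, hf.l'l hU, hf.l'l', real C ht]
    match_scalars <;> field_simp <;> ring
  · rw [hh m, add_right hU, smul_right hU, hf.ml hU, hf.ml' hU]
    simp

/-- the split torus -/
theorem exists_diag (R : RFrame f F₀ P l l' m d) {μ : F} (hμ : μ ∈ F₀) (hμ0 : μ ≠ 0) :
    ∃ g ∈ M, act g l = μ • l ∧ act g l' = μ⁻¹ • l' ∧ act g m = m := by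
  obtain ⟨A, hA, -, a1, a2, a3⟩ := exists_swap C R (F₀.inv_mem hμ) (inv_ne_zero hμ0)
  obtain ⟨B, hB, -, b1, b2, b3⟩ := exists_swap C R F₀.one_mem one_ne_zero
  refine ⟨A * B, M.mul_mem hA hB, ?_, ?_, ?_⟩
  · rw [act_mul, b1, one_smul, a2, inv_inv]
  · rw [act_mul, b2, inv_one, one_smul, a1]
  · rw [act_mul, b3, map_neg, a3, neg_neg]

/-- nothing at a rational flag outside the rational unipotent group -/
def NoFlag : Prop :=
  ∀ l l' m : ι → F, ∀ d : F, RFrame f F₀ P l l' m d → ∀ s z, Par σ d s z →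
    heis C.unit l m s z ∈ M → s ∈ F₀ ∧ z = -(d * s * s) / 2

/-- otherwise all transvections -/
theorem utv_all (h : ¬ NoFlag C) (hne : ∃ a, σ a ≠ a) (v : ι → F) (c : F) (hvv : f v v = 0)
    (hc : c + σ c = 0) : utv C.unit v c ∈ M := by
  have hU := C.unit
  simp only [NoFlag, not_forall] at h
  obtain ⟨l, l', m, d, R, s, z, hp, hX, hbad⟩ := h
  have hf := R.frame
  have h2 := C.two
  -- a transvection
  obtain ⟨c₁, hc₁, hc₁0, hT⟩ : ∃ c₁, c₁ + σ c₁ = 0 ∧ c₁ ≠ 0 ∧ utv hU l c₁ ∈ M := by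
    by_cases hs : s ∈ F₀
    · have hz : z ≠ -(d * s * s) / 2 := fun e => hbad ⟨hs, e⟩
      have hY := sym_mem C R (F₀.neg_mem hs)
      have h' := M.mul_mem hX hY
      rw [heis_mul hU hf, add_neg_cancel, heis_eq_utv hU hf] at h'
      have e : z + -(d * -s * -s) / 2 - d * σ s * -s = z - -(d * s * s) / 2 := by
        rw [real C hs]; field_simp; ring
      rw [e] at h'
      refine ⟨_, ?_, sub_ne_zero.2 hz, h'⟩
      unfold Par at hp
      rw [map_sub, map_div₀, map_neg, map_mul, map_mul, real C (d_mem C R), real C hs, map_ofNat]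
      rw [real C hs] at hp
      field_simp
      linear_combination 2 * hp
    · have hY := sym_mem C R F₀.one_mem
      have h' := M.mul_mem hX hY
      rw [heis_comm hU hf, M.mul_mem_cancel_left (M.mul_mem hY hX)] at h'
      refine ⟨_, ?_, mul_ne_zero hf.d0 fun e => hs ((C.fixed s).2 ?_), h'⟩
      · simp only [map_mul, map_sub, map_one, hU.involutive, hf.σd hU]; ring
      · rw [map_one] at e; linear_combination -e
  -- the whole root group
  have hA : ∀ c, c + σ c = 0 → utv hU l c ∈ M := by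
    intro c hc
    have hk : σ (c / c₁) = c / c₁ := by
      rw [map_div₀, eq_neg_of_add_eq_zero_right hc, eq_neg_of_add_eq_zero_right hc₁, neg_div_neg_eq]
    have hkF := (C.fixed _).2 hk
    have sq : ∀ μ ∈ F₀, utv hU l (μ * μ * c₁) ∈ M := by
      intro μ hμ
      rcases eq_or_ne μ 0 with rfl | h0
      · rw [zero_mul, zero_mul, utv_zero hU]; exact M.one_mem
      obtain ⟨D, hD, hDl, -, -⟩ := exists_diag C R hμ h0
      have h' := M.mul_mem (M.mul_mem hD hT) (M.inv_mem hD)
      rwa [conj_utv hU (C.iso hD) hf.ll, hDl, utv_smul hU hf.ll, real C hμ] at h'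
    obtain ⟨k, hk'⟩ : ∃ k, k = c / c₁ := ⟨_, rfl⟩
    rw [← hk'] at hkF
    have h' := M.mul_mem (sq ((k + 1) / 2) (F₀.div_mem (F₀.add_mem hkF F₀.one_mem) (mem_two C)))
      (M.inv_mem (sq ((k - 1) / 2) (F₀.div_mem (F₀.sub_mem hkF F₀.one_mem) (mem_two C))))
    rw [← utv_neg hU hf.ll, utv_add hU hf.ll] at h'
    convert h' using 2
    rw [hk']; field_simp; ring
  obtain ⟨W, hW, -, hWl, hWl', hWm⟩ := exists_swap C R F₀.one_mem one_ne_zero
  rw [one_smul] at hWl
  rw [inv_one, one_smul] at hWl'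
  have hA' : ∀ c, c + σ c = 0 → utv hU l' c ∈ M := fun c hc => by
    have h' := M.mul_mem (M.mul_mem hW (hA c hc)) (M.inv_mem hW)
    rwa [conj_utv hU (C.iso hW) hf.ll, hWl] at h'
  -- an element scaling by a skew factor
  obtain ⟨e, he0, he, -⟩ := skew_ne C hne
  have hei : -e⁻¹ + σ (-e⁻¹) = 0 := by
    rw [map_neg, map_inv₀, eq_neg_of_add_eq_zero_right he, inv_neg]; ring
  obtain ⟨N, hN⟩ : ∃ N, N = W * (utv hU l (-e⁻¹) * utv hU l' e * utv hU l (-e⁻¹)) := ⟨_, rfl⟩
  have hNM : N ∈ M := hN ▸ M.mul_mem hW (M.mul_mem (M.mul_mem (hA _ hei) (hA' _ he)) (hA _ hei))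
  have hUl : act (utv hU l (-e⁻¹)) l = l := by rw [act_utv hU hf.ll, hf.ll, mul_zero, zero_smul, add_zero]
  have hLl : act (utv hU l' e) l = l + e • l' := by rw [act_utv hU hf.l'l', hf.ll', mul_one]
  have hUl' : act (utv hU l (-e⁻¹)) l' = l' + (-e⁻¹) • l := by rw [act_utv hU hf.ll, hf.l'l hU, mul_one]
  have hUm : act (utv hU l (-e⁻¹)) m = m := by rw [act_utv hU hf.ll, hf.ml hU, mul_zero, zero_smul, add_zero]
  have hLm : act (utv hU l' e) m = m := by rw [act_utv hU hf.l'l', hf.ml' hU, mul_zero, zero_smul, add_zero]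
  have hNl : act N l = e • l := by
    simp only [hN, act_mul, hUl, hLl, map_add, map_smul, hUl', hWl, hWl', smul_add, smul_smul, mul_neg,
      mul_inv_cancel₀ he0]
    module
  have hNm : act N m = (-1 : F) • m + (0 : F) • l := by
    simp only [hN, act_mul, hUm, hLm, hWm]
    module
  -- all unipotent elements at `l`
  have hU1 : ∀ s z, Par σ d s z → heis hU l m s z ∈ M := by
    intro s z hp
    have hB : ∀ s, ∃ z, Par σ d s z ∧ heis hU l m s z ∈ M := by
      intro s
      have ha : (s + σ s) / 2 ∈ F₀ := (C.fixed _).2 (by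
        rw [map_div₀, map_add, hU.involutive, map_ofNat, add_comm])
      obtain ⟨b, hb⟩ : ∃ b, b = (s - σ s) / 2 / σ (e / -1) := ⟨_, rfl⟩
      have hbF : b ∈ F₀ := (C.fixed _).2 (by
        rw [hb]
        simp only [map_div₀, map_sub, map_neg, map_one, hU.involutive, map_ofNat]
        rw [eq_neg_of_add_eq_zero_right he]
        field_simp
        ring)
      obtain ⟨z', hp', e'⟩ := conj_heis hU hf (C.iso hNM) hNl hNm (sym_par C R hbF)
      have h1 := M.mul_mem (M.mul_mem hNM (sym_mem C R hbF)) (M.inv_mem hNM)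
      rw [e'] at h1
      have h3 := M.mul_mem (sym_mem C R ha) h1
      rw [heis_mul hU hf] at h3
      have hs : (s + σ s) / 2 + σ (e / -1) * b = s := by
        have hne0 : σ (e / -1) ≠ 0 := (map_ne_zero σ).2 (div_ne_zero he0 (neg_ne_zero.2 one_ne_zero))
        rw [hb, mul_div_cancel₀ _ hne0]
        field_simp
        ring
      rw [hs] at h3
      exact ⟨_, par_of_mem hU hf (C.iso h3), h3⟩
    obtain ⟨z', hp', h⟩ := hB s
    have h2 := M.mul_mem h (hA (z - z') (by
      unfold Par at hp hp'; rw [map_sub]; linear_combination hp - hp'))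
    rw [← heis_eq_utv hU hf, heis_mul hU hf, add_zero, mul_zero, sub_zero, add_sub_cancel] at h2
    exact h2
  by_cases hvl : f v l = 0
  · obtain ⟨k, rfl⟩ := Submodule.mem_span_singleton.1
      (dep_of_iso_orth_three hU hf.three.le (hf.l0 hU) hf.ll hvv (eq_zero_symm hU hvl))
    rw [utv_smul hU hf.ll]
    exact hA _ (by simp only [map_mul, hU.involutive]; linear_combination (k * σ k) * hc)
  obtain ⟨s', z', hp', hv⟩ := coords hU hf hvv hvl
  generalize f v l = k at hv
  have hX' := hU1 s' z' hp'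
  rw [hv, utv_smul hU (by rw [mem_uiso.1 (C.iso hX'), hf.l'l']), ← conj_utv hU (C.iso hX') hf.l'l']
  exact M.mul_mem (M.mul_mem hX' (hA' _ (by
    simp only [map_mul, hU.involutive]; linear_combination (k * σ k) * hc))) (M.inv_mem hX')

end Cfsg.Agent.MaxCl.SU3.Orth
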