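/-
SO_3(q) inside SU_3(q): the elements fixing a rational point with two rational isotropic points on its polar,
under the hypothesis that nothing lies at a rational flag outside the rational unipotent group.

Such an element off the torus leads to an involutive map `k x = (x + b) / (x - 1)` of the polar line with
`u^2 + (b - 1) u + 1 = 0` for every square `u ≠ 1`, so `q = 7`, and then it fixes an isotropic point or has
fourth power one.
-/
import Cfsg.Agent.Lib.MaxCl.SU3.Orth.Basic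

set_option autoImplicit false
set_option maxHeartbeats 800000

namespace Cfsg.Agent.MaxCl.SU3.Orth

open Cfsg.Agent.MaxCl Cfsg.Agent.MaxCl.Unit Cfsg.Agent.MaxCl.SU3.Subfield
open scoped MatrixGroups Matrix

variable {ι : Type} [Fintype ι] [DecidableEq ι] {F : Type*} [Field F]

/-- `g` maps the line of `u` into the line of `v` -/
def Maps (g : GL ι F) (u v : ι → F) : Prop := ∃ k : F, act g u = k • v

theorem Maps.comp {g h : GL ι F} {u v w : ι → F} (h1 : Maps h u v) (h2 : Maps g v w) : Maps (g * h) u w := by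
  obtain ⟨k, hk⟩ := h1; obtain ⟨k', hk'⟩ := h2
  exact ⟨k * k', by rw [act_mul, hk, map_smul, hk', smul_smul]⟩

theorem Maps.inv {g : GL ι F} {u v : ι → F} (h : Maps g u v) (hu : u ≠ 0) : Maps g⁻¹ v u := by
  obtain ⟨k, hk⟩ := h
  have hk0 : k ≠ 0 := fun h0 => hu (act_injective g (by rw [hk, h0, zero_smul, map_zero]))
  exact ⟨k⁻¹, act_injective g (by rw [act_act_inv, map_smul, hk, inv_smul_smul₀ hk0])⟩

theorem fix_mul {g h : GL ι F} {m : ι → F} (hg : act g m = m) (hh : act h m = m) : act (g * h) m = m := by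
  rw [act_mul, hh, hg]

theorem fix_inv {g : GL ι F} {m : ι → F} (hg : act g m = m) : act g⁻¹ m = m := by
  conv_lhs => rw [← hg]
  rw [act_inv_act]

/-- a point of the polar line in the coordinate `x` -/
def pt (l l' : ι → F) (x₀ x : F) : ι → F := l' + (x * x₀) • l

variable {σ : F ≃+* F} {f : (ι → F) → (ι → F) → F} {F₀ : _root_.Subfield F} {P : GL ι F}
  {M : Subgroup (GL ι F)} {l l' m : ι → F} {d : F}
variable (C : Ctx σ f F₀ P M)
include C

variable [Fintype F]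

/-- products and quotients of non-squares are squares -/
theorem sq_of_nonsq {x y : F} (hx : x ∈ F₀) (hy : y ∈ F₀) (hx' : ∀ t ∈ F₀, t * t ≠ x)
    (hy' : ∀ t ∈ F₀, t * t ≠ y) : (∃ t ∈ F₀, t * t = x * y) ∧ ∃ t ∈ F₀, t * t = x / y := by
  classical
  haveI : Fintype F₀ := Fintype.ofFinite _
  have hx0 : x ≠ 0 := fun h => hx' 0 F₀.zero_mem (by rw [h, zero_mul])
  have hy0 : y ≠ 0 := fun h => hy' 0 F₀.zero_mem (by rw [h, zero_mul])
  have hchar : ringChar F₀ ≠ 2 := fun h => C.two (by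
    haveI : CharP F₀ 2 := h ▸ ringChar.charP F₀
    exact congrArg (Subtype.val : F₀ → F) (CharTwo.two_eq_zero (R := F₀)))
  have n1 : ∀ z (hz : z ∈ F₀), (∀ t ∈ F₀, t * t ≠ z) → quadraticChar F₀ ⟨z, hz⟩ = -1 := fun z hz h =>
    quadraticChar_neg_one_iff_not_isSquare.2 fun ⟨t, ht⟩ => h t t.2 (congrArg Subtype.val ht).symm
  have key : (quadraticChar F₀) (⟨x, hx⟩ * ⟨y, hy⟩) = 1 := by rw [map_mul, n1 x hx hx', n1 y hy hy']; norm_num
  obtain ⟨t, ht⟩ := (quadraticChar_one_iff_isSquare (mul_ne_zero (fun h => hx0 (congrArg Subtype.val h))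
    (fun h => hy0 (congrArg Subtype.val h)))).1 key
  have ht' : x * y = (t : F) * t := congrArg Subtype.val ht
  refine ⟨⟨t, t.2, ht'.symm⟩, (t : F) / y, F₀.div_mem t.2 hy, ?_⟩
  rw [div_mul_div_comm, ← ht', mul_div_mul_right _ _ hy0]

theorem exists_nonsq : ∃ ν ∈ F₀, ∀ t ∈ F₀, t * t ≠ ν := by
  haveI : Fintype F₀ := Fintype.ofFinite _
  have hchar : ringChar F₀ ≠ 2 := fun h => C.two (by
    haveI : CharP F₀ 2 := h ▸ ringChar.charP F₀
    exact congrArg (Subtype.val : F₀ → F) (CharTwo.two_eq_zero (R := F₀)))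
  obtain ⟨ν, hν⟩ := FiniteField.exists_nonsquare hchar
  exact ⟨ν, ν.2, fun t ht e => hν ⟨⟨t, ht⟩, Subtype.ext e.symm⟩⟩

variable (R : RFrame f F₀ P l l' m d)
include R

/-- no element of determinant one fixes `l` and negates `m` -/
theorem no_neg {h : GL ι F} (hM : h ∈ M) (hl : act h l = l) (hm : act h m = -m) : False := by
  have hU := C.unit
  have hf := R.frame
  obtain ⟨g, hg, hq⟩ := exists_qref hU (x := m) (by rw [hf.mm]; exact hf.d0) (l := -1)
    (by rw [map_neg, map_one]; ring)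
  have gl : act g l = l := by rw [hq l, hf.lm]; simp
  have gm : act g m = -m := by
    rw [hq m, hf.mm]
    match_scalars
    field_simp [hf.d0]
    ring
  obtain ⟨s, z, -, e⟩ := exists_eq_heis hU hf (h := h * g) (mul_mem (C.iso hM) hg) (w := 0)
    (by rw [act_mul, gl, hl]) (by rw [act_mul, gm, map_neg, hm]; simp)
  have e1 : ((h * g : GL ι F) : Matrix ι ι F).det = 1 :=
    e ▸ congrArg Units.val (MonoidHom.mem_ker.1 (heis_det hU hf s z))
  rw [Units.val_mul, Matrix.det_mul, det_qref hU (by rw [hf.mm]; exact hf.d0) hq,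
    show (h : Matrix ι ι F).det = 1 from congrArg Units.val (MonoidHom.mem_ker.1 (C.sl hM))] at e1
  exact C.two (by linear_combination -e1)

variable (hN : NoFlag C)
include hN

/-- the elements fixing `m` and the point of `l` form the split torus -/
theorem fix_line {g : GL ι F} (hg : g ∈ M) (hgm : act g m = m) (hgl : Maps g l l) :
    ∃ μ ∈ F₀, μ ≠ 0 ∧ act g l = μ • l ∧ act g l' = μ⁻¹ • l' := by
  have hU := C.unit
  have hf := R.frame
  obtain ⟨μ, hμ⟩ := hgl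
  have hμ0 : μ ≠ 0 := fun h => hf.l0 hU (act_injective g (by rw [hμ, h, zero_smul, map_zero]))
  obtain ⟨z', hp', e⟩ := conj_heis hU hf (C.iso hg) hμ (μ' := 1) (b := 0) (by rw [hgm]; simp)
    (sym_par C R F₀.one_mem)
  have h1 := M.mul_mem (M.mul_mem hg (sym_mem C R F₀.one_mem)) (M.inv_mem hg)
  rw [e] at h1
  have h2 := (hN _ _ _ _ R _ _ hp' h1).1
  rw [div_one, mul_one] at h2
  have hμF : μ ∈ F₀ := by
    have := real C h2
    rw [C.unit.involutive] at this
    rwa [← this] at h2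
  obtain ⟨D, hD, Dl, Dl', Dm⟩ := exists_diag C R hμF hμ0
  have hh := M.mul_mem (M.inv_mem hD) hg
  have hl1 : act (D⁻¹ * g) l = l := by
    rw [act_mul, hμ, map_smul]
    conv_lhs => rw [show l = μ⁻¹ • act D l by rw [Dl, inv_smul_smul₀ hμ0]]
    rw [map_smul, act_inv_act, smul_smul, mul_inv_cancel₀ hμ0, one_smul]
  have hm1 : act (D⁻¹ * g) m = m := fix_mul (fix_inv Dm) hgm
  obtain ⟨s, z, hp, e'⟩ := exists_eq_heis hU hf (C.iso hh) hl1 (w := 0) (by rw [hm1]; simp)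
  obtain ⟨-, hz⟩ := hN _ _ _ _ R s z hp (e' ▸ hh)
  have hs : s = 0 := by
    have h3 := congrArg (act · m) e'
    simp only [hm1, heis_m hU hf] at h3
    rw [eq_comm, sub_eq_self, smul_eq_zero, mul_eq_zero, or_iff_right hf.d0] at h3
    exact (map_eq_zero σ).1 (h3.resolve_right (hf.l0 hU))
  rw [hs, mul_zero, neg_zero, zero_div] at hz
  rw [hs, hz, heis_eq_utv hU hf, utv_zero hU, inv_mul_eq_one] at e'
  exact ⟨μ, hμF, hμ0, hμ, by rw [← e', Dl']⟩

/-- no element fixing `m` sends `l` to `l'` -/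
theorem no_swap {g : GL ι F} (hg : g ∈ M) (hgm : act g m = m) (hgl : Maps g l l') : False := by
  have hU := C.unit
  have hf := R.frame
  obtain ⟨c, hc⟩ := hgl
  obtain ⟨W, hW, -, -, Wl', Wm⟩ := exists_swap C R F₀.one_mem one_ne_zero
  rw [inv_one, one_smul] at Wl'
  have hm : act (W * g) m = (-1 : F) • m + (0 : F) • l := by rw [act_mul, hgm, Wm]; module
  have hl : act (W * g) l = c • l := by rw [act_mul, hc, map_smul, Wl']
  have hWg := M.mul_mem hW hg
  have hc0 : c ≠ 0 := fun h => hf.l0 hU (act_injective g (by rw [hc, h, zero_smul, map_zero]))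
  obtain ⟨z', hp', e⟩ := conj_heis hU hf (C.iso hWg) hl hm (sym_par C R F₀.one_mem)
  have h1 := M.mul_mem (M.mul_mem hWg (sym_mem C R F₀.one_mem)) (M.inv_mem hWg)
  rw [e] at h1
  have h2 := (hN _ _ _ _ R _ _ hp' h1).1
  rw [mul_one, div_neg, div_one, map_neg] at h2
  have hcF : c ∈ F₀ := by
    have h3 := F₀.neg_mem h2
    rw [neg_neg] at h3
    have := real C h3
    rw [C.unit.involutive] at this
    rwa [← this] at h3
  obtain ⟨D, hD, Dl, -, Dm⟩ := exists_diag C R hcF hc0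
  refine no_neg C R (M.mul_mem (M.inv_mem hD) hWg) ?_ ?_
  · rw [act_mul, hl, ← Dl, act_inv_act]
  · rw [act_mul, hm, zero_smul, add_zero, neg_smul, one_smul, map_neg, fix_inv Dm]

/-- the image of `l` -/
theorem image_l {g : GL ι F} (hg : g ∈ M) (hgm : act g m = m) :
    Maps g l l ∨ ∃ a, a ≠ 0 ∧ a + σ a = 0 ∧ Maps g l (l' + a • l) := by
  have hU := C.unit
  have hf := R.frame
  have e := mem_uiso.1 (C.iso hg)
  have hll : f (act g l) (act g l) = 0 := (e l l).trans hf.ll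
  by_cases h : f (act g l) l = 0
  · obtain ⟨k, hk⟩ := Submodule.mem_span_singleton.1
      (dep_of_iso_orth_three hU hf.three.le (hf.l0 hU) hf.ll hll (eq_zero_symm hU h))
    exact Or.inl ⟨k, hk.symm⟩
  · obtain ⟨s, z, hp, hv⟩ := coords hU hf hll h
    have h0 : f (act g l) m = 0 := by conv_lhs => rw [← hgm, e, hf.lm]
    rw [hv, heis_l' hU hf] at h0
    simp only [add_left hU, smul_left hU, hf.l'm, hf.mm, hf.lm, mul_zero, zero_add, add_zero] at h0
    have hs : s = 0 := by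
      rcases mul_eq_zero.1 h0 with h' | h'
      · exact absurd h' h
      · exact (mul_eq_zero.1 h').resolve_right hf.d0
    subst hs
    have hmap : Maps g l (l' + z • l) := ⟨_, by rw [hv, heis_l' hU hf, zero_smul, add_zero]⟩
    refine Or.inr ⟨z, fun hz => ?_, by unfold Par at hp; linear_combination hp, hmap⟩
    rw [hz, zero_smul, add_zero] at hmap
    exact no_swap C R hN hg hgm hmap

/-- the two orbits are disjoint -/
theorem disjoint {h₁ h₂ : GL ι F} (g₁ : h₁ ∈ M) (g₂ : h₂ ∈ M) (m₁ : act h₁ m = m) (m₂ : act h₂ m = m)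
    {v : ι → F} (e₁ : Maps h₁ l v) (e₂ : Maps h₂ l' v) : False :=
  no_swap C R hN (M.mul_mem (M.inv_mem g₂) g₁) (fix_mul (fix_inv m₂) m₁)
    (e₁.comp (e₂.inv ((R.frame.swap C.unit).l0 C.unit)))

omit hN in
/-- the torus on the points -/
theorem diag_pt {μ : F} (hμ : μ ∈ F₀) (hμ0 : μ ≠ 0) : ∃ D ∈ M, act D m = m ∧ Maps D l l ∧ Maps D l' l' ∧
    ∀ x₀ x : F, Maps D (pt l l' x₀ x) (pt l l' x₀ (μ * μ * x)) := by
  obtain ⟨D, hD, Dl, Dl', Dm⟩ := exists_diag C R hμ hμ0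
  refine ⟨D, hD, Dm, ⟨μ, Dl⟩, ⟨μ⁻¹, Dl'⟩, fun x₀ x => ⟨μ⁻¹, ?_⟩⟩
  simp only [pt, map_add, map_smul, Dl, Dl', smul_add, smul_smul]
  congr 2
  field_simp

omit hN in
theorem pt_iso {x₀ x : F} (hx₀ : x₀ + σ x₀ = 0) (hx : x ∈ F₀) :
    f (pt l l' x₀ x) (pt l l' x₀ x) = 0 ∧ f (pt l l' x₀ x) m = 0 ∧ pt l l' x₀ x ≠ 0 := by
  have hU := C.unit
  have hf := R.frame
  refine ⟨?_, ?_, fun h => ?_⟩
  · simp only [pt, add_left hU, add_right hU, smul_left hU, smul_right hU, hf.ll, hf.ll', hf.l'l hU,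
      hf.l'l', map_mul, real C hx]
    linear_combination x * hx₀
  · simp only [pt, add_left hU, smul_left hU, hf.lm, hf.l'm, mul_zero, add_zero]
  · have := congrArg (f · l) h
    simp only [pt, add_left hU, smul_left hU, hf.ll, hf.l'l hU, zero_left hU, mul_zero, add_zero] at this
    exact one_ne_zero this

/-- the involutive map of the polar line -/
theorem exists_kelt {g : GL ι F} (hg : g ∈ M) (hgm : act g m = m) (hgl : ¬ Maps g l l) :
    ∃ k ∈ M, ∃ x₀ b : F, x₀ ≠ 0 ∧ x₀ + σ x₀ = 0 ∧ b ∈ F₀ ∧ b + 1 ≠ 0 ∧ act k m = m ∧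
      Maps k l (pt l l' x₀ 1) ∧ Maps k (pt l l' x₀ 1) l ∧
      (∀ x, x ≠ 1 → Maps k (pt l l' x₀ x) (pt l l' x₀ ((x + b) / (x - 1)))) ∧
      ∀ t ∈ F₀, t * t ≠ -b := by
  have hU := C.unit
  have hf := R.frame
  have hl0 := hf.l0 hU
  have R' := rswap C R
  obtain ⟨a, ha0, has, ha⟩ := (image_l C R hN hg hgm).resolve_left hgl
  obtain ⟨a', ha'0, ha's, ha'⟩ := (image_l C R hN (M.inv_mem hg) (fix_inv hgm)).resolve_left fun h =>
    hgl (by have := h.inv hl0; rwa [inv_inv] at this)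
  obtain ⟨e, he0, hes, he⟩ := (image_l C R' hN hg hgm).resolve_left fun h => hgl (by
    obtain ⟨μ, -, -, -, h1⟩ := fix_line C R' hN hg hgm h
    exact ⟨_, h1⟩)
  obtain ⟨y, hy⟩ : ∃ y, y = e⁻¹ := ⟨_, rfl⟩
  have hy0 : y ≠ 0 := hy ▸ inv_ne_zero he0
  have hys : y + σ y = 0 := by
    rw [hy, map_inv₀, eq_neg_of_add_eq_zero_right hes, inv_neg]; ring
  have he' : Maps g l' (l' + y • l) := by
    obtain ⟨k, hk⟩ := he
    refine ⟨k * e, ?_⟩
    rw [hk, hy, smul_add, smul_add, smul_smul, smul_smul, mul_assoc k e, mul_inv_cancel₀ he0, mul_one]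
    abel
  have hrat : ∀ {u v : F}, u + σ u = 0 → v + σ v = 0 → u / v ∈ F₀ := fun {u v} hu hv => (C.fixed _).2 (by
    rw [map_div₀, eq_neg_of_add_eq_zero_right hu, eq_neg_of_add_eq_zero_right hv, neg_div_neg_eq])
  have hns : ∀ {c : F}, c + σ c = 0 → c ≠ 0 → (∃ h ∈ M, act h m = m ∧ Maps h l (l' + c • l)) →
      ∀ t ∈ F₀, t * t ≠ c / y := by
    rintro c hc hc0 ⟨h, hh, hhm, hhl⟩ t ht e'
    have ht0 : t ≠ 0 := fun h0 => by
      rw [h0, zero_mul, eq_comm, div_eq_zero_iff] at e'; exact e'.elim hc0 hy0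
    obtain ⟨D, hD, Dm, -, -, Dp⟩ := diag_pt C R ht ht0
    refine disjoint C R hN hh (M.mul_mem hD hg) hhm (fix_mul Dm hgm) hhl (he'.comp ?_)
    have := Dp y 1
    rw [e', pt, pt, one_mul, mul_one, div_mul_cancel₀ _ hy0] at this
    exact this
  have n1 := hns has ha0 ⟨g, hg, hgm, ha⟩
  have n2 := hns ha's ha'0 ⟨_, M.inv_mem hg, fix_inv hgm, ha'⟩
  obtain ⟨μ, hμ, hμ2⟩ := (sq_of_nonsq C (hrat ha's hys) (hrat has hys) n2 n1).2
  rw [div_div_div_cancel_right₀ hy0] at hμ2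
  have hμ0 : μ ≠ 0 := fun h => by
    rw [h, zero_mul, eq_comm, div_eq_zero_iff] at hμ2; exact hμ2.elim ha'0 ha0
  obtain ⟨D, hD, Dm, Dl, -, Dp⟩ := diag_pt C R hμ hμ0
  have hkm : act (D * g) m = m := fix_mul Dm hgm
  have hk1 : Maps (D * g) l (pt l l' a' 1) := by
    refine ha.comp ?_
    have := Dp a 1
    rw [hμ2, pt, pt, one_mul, mul_one, div_mul_cancel₀ _ ha0] at this
    rwa [pt, one_mul]
  have hk2 : Maps (D * g) (pt l l' a' 1) l := by
    rw [pt, one_mul]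
    refine Maps.comp ?_ Dl
    have := ha'.inv hl0
    rwa [inv_inv] at this
  obtain ⟨K, hK, hkm', k1, k2⟩ : ∃ K ∈ M, act K m = m ∧ Maps K l (pt l l' a' 1) ∧ Maps K (pt l l' a' 1) l :=
    ⟨_, M.mul_mem hD hg, hkm, hk1, hk2⟩
  obtain ⟨R₁, hR₁⟩ := k1
  obtain ⟨E, hE⟩ := k2
  have hrel : R₁ * σ E = 1 := by
    have h := mem_uiso.1 (C.iso hK) l (pt l l' a' 1)
    rw [hR₁, hE, smul_left hU, smul_right hU] at h
    simp only [pt, add_left hU, add_right hU, smul_left hU, smul_right hU, hf.ll, hf.ll', hf.l'l hU,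
      mul_zero, add_zero] at h
    linear_combination h
  have hR0 : R₁ ≠ 0 := left_ne_zero_of_mul_eq_one hrel
  have hσR0 : σ R₁ ≠ 0 := (map_ne_zero σ).2 hR0
  obtain ⟨β, hβ⟩ : ∃ β, β = E / (R₁ * a' * a') := ⟨_, rfl⟩
  have hrel' : σ R₁ * E = 1 := by
    have := congrArg σ hrel; rwa [map_mul, map_one, hU.involutive] at this
  have hβF : β ∈ F₀ := by
    have e1 : β = 1 / (R₁ * σ R₁ * (a' * a')) := by
      rw [hβ, div_eq_div_iff (by simp [hR0, ha'0]) (by simp [hR0, hσR0, ha'0])]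
      linear_combination (R₁ * a' * a') * hrel'
    rw [e1]
    refine F₀.div_mem F₀.one_mem ((C.fixed _).2 ?_)
    simp only [map_mul, hU.involutive, eq_neg_of_add_eq_zero_right ha's]
    ring
  have hβ0 : β ≠ 0 := by
    rw [hβ]; exact div_ne_zero (right_ne_zero_of_mul_eq_one hrel') (mul_ne_zero (mul_ne_zero hR0 ha'0) ha'0)
  have hgen : ∀ x, x ≠ 1 → Maps K (pt l l' a' x) (pt l l' a' ((x + (β - 1)) / (x - 1))) := by
    intro x hx
    refine ⟨(x - 1) * a' * R₁, ?_⟩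
    have e1 : pt l l' a' x = pt l l' a' 1 + ((x - 1) * a') • l := by simp only [pt]; module
    rw [e1, map_add, map_smul, hE, hR₁]
    simp only [pt, hβ]
    match_scalars <;> field_simp [sub_ne_zero.2 hx] <;> ring
  refine ⟨K, hK, a', β - 1, ha'0, ha's, F₀.sub_mem hβF F₀.one_mem, by rw [sub_add_cancel]; exact hβ0, hkm',
    ⟨R₁, hR₁⟩, ⟨E, hE⟩, hgen, fun t ht e' => ?_⟩
  have h0 : Maps K l' (pt l l' a' (-(β - 1))) := by
    have := hgen 0 zero_ne_one
    rwa [zero_add, zero_sub, div_neg, div_one, show pt l l' a' 0 = l' by simp [pt]] at this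
  rcases eq_or_ne t 0 with rfl | ht0
  · rw [zero_mul] at e'
    rw [← e', show pt l l' a' 0 = l' by simp [pt]] at h0
    obtain ⟨μ', -, -, -, h1⟩ := fix_line C R' hN hK hkm' h0
    have e2 : (μ'⁻¹ • l : ι → F) = R₁ • pt l l' a' 1 := by rw [← h1, hR₁]
    have e3 := congrArg (f · l) e2
    simp only [pt, smul_left hU, add_left hU, hf.ll, hf.l'l hU, mul_zero, add_zero, mul_one] at e3
    exact hR0 e3.symm
  · obtain ⟨D', hD', Dm', -, -, Dp'⟩ := diag_pt C R (F₀.inv_mem ht) (inv_ne_zero ht0)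
    refine disjoint C R hN hK (M.mul_mem hD' hK) hkm' (fix_mul Dm' hkm') ⟨R₁, hR₁⟩ (h0.comp ?_)
    have := Dp' a' (-(β - 1))
    rwa [show t⁻¹ * t⁻¹ * -(β - 1) = 1 by rw [← e']; field_simp] at this

omit hN in
theorem exists_mu : ∃ μ ∈ F₀, μ ≠ 0 ∧ μ * μ ≠ 1 := by
  classical
  haveI : Fintype F₀ := Fintype.ofFinite _
  by_contra h; push Not at h
  have hle : (Finset.univ : Finset F₀).card ≤ ({0, 1, -1} : Finset F₀).card := by
    refine Finset.card_le_card fun x _ => ?_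
    simp only [Finset.mem_insert, Finset.mem_singleton]
    rcases eq_or_ne (x : F) 0 with h0 | h0
    · exact Or.inl (Subtype.ext h0)
    · rcases mul_self_eq_one_iff.1 (h x x.2 h0) with h1 | h1
      · exact Or.inr (Or.inl (Subtype.ext h1))
      · exact Or.inr (Or.inr (Subtype.ext h1))
  have := C.big
  rw [Nat.card_eq_fintype_card, ← Finset.card_univ] at this
  have h3 : ({0, 1, -1} : Finset F₀).card ≤ 3 := Finset.card_le_three
  omega

/-- the quadratic relation, whence `q = 7` -/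
theorem kelt_seven {k : GL ι F} (hk : k ∈ M) {x₀ b : F} (hx₀ : x₀ ≠ 0) (hbF : b ∈ F₀) (hb1 : b + 1 ≠ 0)
    (hkm : act k m = m) (k1 : Maps k l (pt l l' x₀ 1)) (k2 : Maps k (pt l l' x₀ 1) l)
    (kx : ∀ x, x ≠ 1 → Maps k (pt l l' x₀ x) (pt l l' x₀ ((x + b) / (x - 1))))
    (hb : ∀ t ∈ F₀, t * t ≠ -b) :
    Nat.card F₀ = 7 ∧ ∀ μ ∈ F₀, μ ≠ 0 → μ * μ ≠ 1 → μ * μ * (μ * μ) + (b - 1) * (μ * μ) + 1 = 0 := by
  classical
  have hU := C.unit
  have hf := R.frame
  have hl'0 := (hf.swap hU).l0 hU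
  have hb0 : b ≠ 0 := fun h => hb 0 F₀.zero_mem (by rw [h, zero_mul, neg_zero])
  have p0 : pt l l' x₀ 0 = l' := by simp [pt]
  have k0 : Maps k l' (pt l l' x₀ (-b)) := by
    have := kx 0 zero_ne_one
    rwa [zero_add, zero_sub, div_neg, div_one, p0] at this
  have hquad : ∀ μ ∈ F₀, μ ≠ 0 → μ * μ ≠ 1 → μ * μ * (μ * μ) + (b - 1) * (μ * μ) + 1 = 0 := by
    intro μ hμ hμ0 hu1
    obtain ⟨u, hu⟩ : ∃ u, u = μ * μ := ⟨_, rfl⟩
    rw [← hu] at hu1 ⊢
    have huF : u ∈ F₀ := hu ▸ F₀.mul_mem hμ hμ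
    have hu0 : u ≠ 0 := hu ▸ mul_ne_zero hμ0 hμ0
    obtain ⟨D, hD, Dm, -, Dl', Dp⟩ := diag_pt C R hμ hμ0
    obtain ⟨w, hw⟩ : ∃ w, w = (u + b) / (u - 1) := ⟨_, rfl⟩
    have hwF : w ∈ F₀ := hw ▸ F₀.div_mem (F₀.add_mem huF hbF) (F₀.sub_mem huF F₀.one_mem)
    have hu10 := sub_ne_zero.2 hu1
    have hub : u + b ≠ 0 := fun h => hb μ hμ (by rw [← hu]; linear_combination h)
    have hw0 : w ≠ 0 := hw ▸ div_ne_zero hub hu10
    have hkk : Maps (k * D * k) l (pt l l' x₀ w) := by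
      have hDu : Maps D (pt l l' x₀ 1) (pt l l' x₀ u) := by
        have := Dp x₀ 1; rwa [mul_one, ← hu] at this
      rw [mul_assoc]
      exact (k1.comp hDu).comp (hw ▸ kx u hu1)
    obtain ⟨t, ht, ht2⟩ : ∃ t ∈ F₀, t * t = w := by
      by_contra h; push Not at h
      obtain ⟨t, ht, ht2⟩ := (sq_of_nonsq C hwF (F₀.neg_mem hbF) h hb).2
      have ht0 : t ≠ 0 := fun h0 => by
        rw [h0, zero_mul, eq_comm, div_eq_zero_iff] at ht2
        exact ht2.elim hw0 (neg_ne_zero.2 hb0)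
      obtain ⟨D', hD', Dm', -, -, Dp'⟩ := diag_pt C R ht ht0
      refine disjoint C R hN (M.mul_mem (M.mul_mem hk hD) hk) (M.mul_mem hD' hk)
        (fix_mul (fix_mul hkm Dm) hkm) (fix_mul Dm' hkm) hkk (k0.comp ?_)
      have := Dp' x₀ (-b)
      rwa [ht2, div_mul_cancel₀ _ (neg_ne_zero.2 hb0)] at this
    have ht0 : t ≠ 0 := fun h => hw0 (by rw [← ht2, h, zero_mul])
    obtain ⟨D', hD', Dm', -, -, Dp'⟩ := diag_pt C R (F₀.inv_mem ht) (inv_ne_zero ht0)
    obtain ⟨E, hE⟩ : ∃ E, E = k * D' * (k * D * k) := ⟨_, rfl⟩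
    have hEM : E ∈ M := hE ▸ M.mul_mem (M.mul_mem hk hD') (M.mul_mem (M.mul_mem hk hD) hk)
    have hEm : act E m = m := hE ▸ fix_mul (fix_mul hkm Dm') (fix_mul (fix_mul hkm Dm) hkm)
    have hEl : Maps E l l := by
      have hD'w : Maps D' (pt l l' x₀ w) (pt l l' x₀ 1) := by
        have := Dp' x₀ w
        rwa [show t⁻¹ * t⁻¹ * w = 1 by rw [← ht2]; field_simp] at this
      rw [hE]
      exact hkk.comp (hD'w.comp k2)
    obtain ⟨ν, -, hν0, hEl1, hEl'⟩ := fix_line C R hN hEM hEm hEl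
    have hbu : -b * u ≠ 1 := fun h => hb μ⁻¹ (F₀.inv_mem hμ) (by
      rw [← mul_inv, ← hu]; field_simp; linear_combination -h)
    obtain ⟨z, hz⟩ : ∃ z, z = t⁻¹ * t⁻¹ * ((-b * u + b) / (-b * u - 1)) := ⟨_, rfl⟩
    have h3 : Maps (k * D * k) l' (pt l l' x₀ ((-b * u + b) / (-b * u - 1))) := by
      have hDb : Maps D (pt l l' x₀ (-b)) (pt l l' x₀ (-b * u)) := by
        have := Dp x₀ (-b); rwa [← hu, mul_comm u] at this
      rw [mul_assoc]
      exact (k0.comp hDb).comp (kx _ hbu)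
    have h4 : Maps (D' * (k * D * k)) l' (pt l l' x₀ z) := h3.comp (hz ▸ Dp' x₀ _)
    have hE' : ∀ {v : ι → F}, Maps k (pt l l' x₀ z) v → ∃ c, ν⁻¹ • l' = c • v := fun {v} h => by
      obtain ⟨c, hc⟩ := h4.comp h
      rw [← mul_assoc k D', ← hE, hEl'] at hc
      exact ⟨c, hc⟩
    by_cases hz1 : z = 1
    · exfalso
      obtain ⟨c, hc⟩ := hE' (hz1 ▸ k2)
      have := congrArg (f · l) hc
      simp only [smul_left hU, hf.l'l hU, hf.ll, mul_zero, mul_one] at this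
      exact inv_ne_zero hν0 this
    obtain ⟨c, hc⟩ := hE' (kx z hz1)
    have e1 := congrArg (f · l) hc
    have e2 := congrArg (f · l') hc
    simp only [pt, add_left hU, smul_left hU, hf.l'l hU, hf.ll, hf.l'l', hf.ll', mul_zero, mul_one, add_zero,
      zero_add] at e1 e2
    have hc0 : c ≠ 0 := e1 ▸ inv_ne_zero hν0
    have hzb : z = -b := by
      rcases mul_eq_zero.1 e2.symm with h | h
      · exact absurd h hc0
      · rcases mul_eq_zero.1 h with h' | h'
        · rw [div_eq_zero_iff, or_iff_left (sub_ne_zero.2 hz1)] at h'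
          linear_combination h'
        · exact absurd h' hx₀
    have hbu' : -b * u - 1 ≠ 0 := sub_ne_zero.2 hbu
    have hq : -b * u + b = -b * w * (-b * u - 1) := by
      rw [hz, ← mul_inv, ht2, inv_mul_eq_iff_eq_mul₀ hw0] at hzb
      rw [← div_eq_iff hbu', hzb]; ring
    rw [hw] at hq
    field_simp at hq
    have : b * (b + 1) * (u * u + (b - 1) * u + 1) = 0 := by linear_combination -b * hq
    exact (mul_eq_zero.1 this).resolve_left (mul_ne_zero hb0 hb1)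
  refine ⟨le_antisymm ?_ C.big, hquad⟩
  haveI : Fintype F₀ := Fintype.ofFinite _
  let p : Polynomial F₀ := Polynomial.X ^ 4 +
    (Polynomial.C (⟨b, hbF⟩ - 1) * Polynomial.X ^ 2 + Polynomial.C 1)
  have hp0 : p ≠ 0 := fun h => by
    have := congrArg (·.coeff 4) h
    simp only [p, Polynomial.coeff_add, Polynomial.coeff_X_pow, Polynomial.coeff_C_mul,
      Polynomial.coeff_C, Polynomial.coeff_zero] at this
    norm_num at this
  have hdeg : p.natDegree ≤ 4 := by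
    refine (Polynomial.natDegree_add_le _ _).trans (max_le (by simp) ?_)
    refine (Polynomial.natDegree_add_le _ _).trans (max_le ?_ (by simp))
    exact (Polynomial.natDegree_C_mul_X_pow_le _ _).trans (by norm_num)
  have hsub : (Finset.univ : Finset F₀) ⊆ p.roots.toFinset ∪ {0, 1, -1} := by
    intro x _
    rw [Finset.mem_union, Finset.mem_insert, Finset.mem_insert, Finset.mem_singleton]
    rcases eq_or_ne (x : F) 0 with h0 | h0
    · exact Or.inr (Or.inl (Subtype.ext h0))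
    by_cases h1 : (x : F) * x = 1
    · rcases mul_self_eq_one_iff.1 h1 with h | h
      · exact Or.inr (Or.inr (Or.inl (Subtype.ext h)))
      · exact Or.inr (Or.inr (Or.inr (Subtype.ext h)))
    refine Or.inl (Multiset.mem_toFinset.2 ((Polynomial.mem_roots hp0).2 ?_))
    apply Subtype.ext
    have := hquad x x.2 h0 h1
    simp [p]
    linear_combination this
  have := (Finset.card_le_card hsub).trans (Finset.card_union_le _ _)
  have hr := (Multiset.toFinset_card_le p.roots).trans ((Polynomial.card_roots' p).trans hdeg)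
  have h3 : ({0, 1, -1} : Finset F₀).card ≤ 3 := Finset.card_le_three
  rw [Finset.card_univ, ← Nat.card_eq_fintype_card] at this
  omega

/-- an element fixing `m` fixes an isotropic point of its polar or has fourth power one -/
theorem dichotomy {y : GL ι F} (hy : y ∈ M) (hym : act y m = m) :
    (∃ p, p ≠ 0 ∧ f p p = 0 ∧ f p m = 0 ∧ Maps y p p) ∨ y ^ 4 = 1 := by
  have hU := C.unit
  have hf := R.frame
  by_cases hyl : Maps y l l
  · exact Or.inl ⟨l, hf.l0 hU, hf.ll, hf.lm, hyl⟩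
  obtain ⟨k, hk, x₀, b, hx₀, hx₀s, hbF, hb1, hkm, k1, k2, kx, hb⟩ := exists_kelt C R hN hy hym hyl
  obtain ⟨h7, hquad⟩ := kelt_seven C R hN hk hx₀ hbF hb1 hkm k1 k2 kx hb
  obtain ⟨a, -, has, ha⟩ := (image_l C R hN hy hym).resolve_left hyl
  obtain ⟨x, hx⟩ : ∃ x, x = a / x₀ := ⟨_, rfl⟩
  have hxF : x ∈ F₀ := (C.fixed _).2 (by
    rw [hx, map_div₀, eq_neg_of_add_eq_zero_right has, eq_neg_of_add_eq_zero_right hx₀s, neg_div_neg_eq])
  have hyx : Maps y l (pt l l' x₀ x) := by rwa [pt, hx, div_mul_cancel₀ _ hx₀]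
  have p0 : pt l l' x₀ 0 = l' := by simp [pt]
  have hb0 : b ≠ 0 := fun h => hb 0 F₀.zero_mem (by rw [h, zero_mul, neg_zero])
  have k0 : Maps k l' (pt l l' x₀ (-b)) := by
    have := kx 0 zero_ne_one
    rwa [zero_add, zero_sub, div_neg, div_one, p0] at this
  obtain ⟨t, ht, ht0, ht2⟩ : ∃ t ∈ F₀, t ≠ 0 ∧ t * t = x := by
    have hx0 : x ≠ 0 := fun h => no_swap C R hN hy hym (by rwa [h, p0] at hyx)
    by_contra h; push Not at h
    obtain ⟨t, ht, ht2⟩ := (sq_of_nonsq C hxF (F₀.neg_mem hbF) (fun t ht e =>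
      h t ht (fun h0 => hx0 (by rw [← e, h0, zero_mul])) e) hb).2
    have ht0 : t ≠ 0 := fun h0 => by
      rw [h0, zero_mul, eq_comm, div_eq_zero_iff] at ht2
      exact ht2.elim hx0 (neg_ne_zero.2 hb0)
    obtain ⟨D', hD', Dm', -, -, Dp'⟩ := diag_pt C R ht ht0
    refine disjoint C R hN hy (M.mul_mem hD' hk) hym (fix_mul Dm' hkm) hyx (k0.comp ?_)
    have := Dp' x₀ (-b)
    rwa [ht2, div_mul_cancel₀ _ (neg_ne_zero.2 hb0)] at this
  obtain ⟨D, hD, Dm, Dl, Dl', Dp⟩ := diag_pt C R ht ht0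
  -- `y` conjugated by `D` is `k` times a torus element
  obtain ⟨h, hh⟩ : ∃ h, h = k⁻¹ * D⁻¹ * y * D := ⟨_, rfl⟩
  have hhM : h ∈ M := hh ▸ M.mul_mem (M.mul_mem (M.mul_mem (M.inv_mem hk) (M.inv_mem hD)) hy) hD
  have hhm : act h m = m := hh ▸ fix_mul (fix_mul (fix_mul (fix_inv hkm) (fix_inv Dm)) hym) Dm
  have hl0 := hf.l0 hU
  have hhl : Maps h l l := by
    have hp1 := (pt_iso C R hx₀s F₀.one_mem (l := l) (l' := l')).2.2
    have e1 : Maps D (pt l l' x₀ 1) (pt l l' x₀ x) := by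
      have := Dp x₀ 1; rwa [mul_one, ht2] at this
    rw [hh, mul_assoc, mul_assoc]
    exact ((Dl.comp hyx).comp (e1.inv hp1)).comp (k1.inv hl0)
  obtain ⟨κ, hκ, hκ0, hhκ, hhκ'⟩ := fix_line C R hN hhM hhm hhl
  obtain ⟨u, hu⟩ : ∃ u, u = κ * κ := ⟨_, rfl⟩
  have hhp : ∀ z, Maps h (pt l l' x₀ z) (pt l l' x₀ (u * z)) := fun z => ⟨κ⁻¹, by
    simp only [pt, map_add, map_smul, hhκ, hhκ', smul_add, smul_smul, hu]
    congr 2
    field_simp⟩
  obtain ⟨y', hy'⟩ : ∃ y', y' = k * h := ⟨_, rfl⟩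
  have hyy : y = D * y' * D⁻¹ := by rw [hy', hh]; group
  by_cases hu1 : u = 1
  · right
    have hy'M : y' ∈ M := hy' ▸ M.mul_mem hk hhM
    have hy'm : act y' m = m := hy' ▸ fix_mul hkm hhm
    have hhl1 : Maps h l l := ⟨κ, hhκ⟩
    have hh1 : Maps h (pt l l' x₀ 1) (pt l l' x₀ 1) := by
      have := hhp 1; rwa [hu1, one_mul] at this
    have a1 : Maps y' l (pt l l' x₀ 1) := by rw [hy']; exact hhl1.comp k1
    have a2 : Maps y' (pt l l' x₀ 1) l := by rw [hy']; exact hh1.comp k2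
    obtain ⟨μ, -, hμ0, e1, e2⟩ := fix_line C R hN (M.mul_mem hy'M hy'M) (fix_mul hy'm hy'm) (a1.comp a2)
    obtain ⟨c, hc⟩ := a2.comp a1
    simp only [pt, map_add, map_smul, e1, e2, smul_add, smul_smul, one_mul] at hc
    have q1 := congrArg (f · l) hc
    have q2 := congrArg (f · l') hc
    simp only [add_left hU, smul_left hU, hf.ll, hf.l'l', hf.ll', hf.l'l hU, mul_zero, mul_one, add_zero,
      zero_add] at q1 q2
    rw [← q1] at q2
    have hμμ : μ * μ = 1 := by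
      have := mul_left_cancel₀ hx₀ (show x₀ * μ = x₀ * μ⁻¹ by linear_combination q2)
      nth_rewrite 2 [this]
      exact mul_inv_cancel₀ hμ0
    have h4 : y' ^ 4 = 1 := by
      rw [show y' ^ 4 = y' * y' * (y' * y') by rw [pow_succ, pow_succ, pow_two, mul_assoc (y' * y')]]
      refine hf.gl_ext hU ?_ ?_ ?_
      · rw [act_mul, e1, map_smul, e1, smul_smul, hμμ, one_smul, act_one]
      · rw [act_mul, e2, map_smul, e2, smul_smul, ← mul_inv, hμμ, inv_one, one_smul, act_one]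
      · rw [fix_mul (fix_mul hy'm hy'm) (fix_mul hy'm hy'm), act_one]
    rw [hyy, conj_pow, h4, mul_one, mul_inv_cancel]
  left
  have hu0 : u ≠ 0 := hu ▸ mul_ne_zero hκ0 hκ0
  have huF : u ∈ F₀ := hu ▸ F₀.mul_mem hκ hκ
  have hq := hquad κ hκ hκ0 (hu ▸ hu1)
  rw [← hu] at hq
  have h70 : (7 : F) = 0 := by
    haveI : Fintype F₀ := Fintype.ofFinite _
    have := FiniteField.cast_card_eq_zero F₀
    rw [← Nat.card_eq_fintype_card, h7] at this
    have h := congrArg (Subtype.val : F₀ → F) this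
    push_cast at h
    exact h
  obtain ⟨z, hz⟩ : ∃ z, z = ((1 + u) + 2 * (u - 1)) / (2 * u) := ⟨_, rfl⟩
  have hzF : z ∈ F₀ := hz ▸ F₀.div_mem (F₀.add_mem (F₀.add_mem F₀.one_mem huF)
    (F₀.mul_mem (mem_two C) (F₀.sub_mem huF F₀.one_mem))) (F₀.mul_mem (mem_two C) huF)
  have hroot : u * z * z - (1 + u) * z - b = 0 := by
    have h2 := C.two
    rw [hz]
    field_simp
    linear_combination -4 * hq + (u - 1) ^ 2 * h70
  have huz : u * z - 1 ≠ 0 := fun h => hb1 (by linear_combination -hroot + (z - 1) * h)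
  have hfix : Maps y' (pt l l' x₀ z) (pt l l' x₀ z) := by
    rw [hy']
    refine (hhp z).comp ?_
    have e := kx (u * z) (sub_ne_zero.1 huz)
    rwa [show (u * z + b) / (u * z - 1) = z by rw [div_eq_iff huz]; linear_combination -hroot] at e
  obtain ⟨hp1, hp2, hp3⟩ := pt_iso C R hx₀s hzF (l := l) (l' := l')
  refine ⟨act D (pt l l' x₀ z), fun h0 => hp3 (act_injective D (h0.trans (map_zero _).symm)),
    (mem_uiso.1 (C.iso hD) _ _).trans hp1, ?_, ?_⟩
  · conv_lhs => rw [← Dm, mem_uiso.1 (C.iso hD), hp2]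
  · rw [hyy]
    have hD' : Maps D⁻¹ (act D (pt l l' x₀ z)) (pt l l' x₀ z) := ⟨1, by rw [act_inv_act, one_smul]⟩
    rw [mul_assoc]
    exact (hD'.comp hfix).comp ⟨1, by rw [one_smul]⟩

end Cfsg.Agent.MaxCl.SU3.Orth
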