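/-
SO_3(q) is maximal in SU_3(q) for odd `q ≥ 7`: without an element at a rational flag outside the rational
unipotent group, the homologies with rational hyperbolic and elliptic centres are not conjugate in an overgroup,
so two of them have an involution commuting with both, which forces all conjugates of elliptic ones to be rational.
-/
import Cfsg.Agent.Lib.MaxCl.SU3.Orth.Stab
import Cfsg.Agent.Lib.MaxCl.SU3.Gen
import Cfsg.Agent.Lib.MaxCl.UnitaryOrthSubfield
import Cfsg.Agent.Lib.QForm.Basis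

set_option autoImplicit false
set_option maxHeartbeats 800000

namespace Cfsg.Agent.MaxCl.SU3.Orth

open Cfsg.Agent.MaxCl Cfsg.Agent.MaxCl.Unit Cfsg.Agent.MaxCl.SU3.Subfield
open scoped MatrixGroups Matrix

variable {ι : Type} [Fintype ι] [DecidableEq ι] {F : Type*} [Field F] [Fintype F]
variable {σ : F ≃+* F} {f : (ι → F) → (ι → F) → F} {F₀ : _root_.Subfield F} {P : GL ι F}
  {M : Subgroup (GL ι F)} {l l' m : ι → F} {d : F}

/-- a rational point with no rational isotropic point on its polar -/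
def Ell (f : (ι → F) → (ι → F) → F) (F₀ : _root_.Subfield F) (P : GL ι F) (a : ι → F) : Prop :=
  a ∈ ratVec F₀ P ∧ f a a ≠ 0 ∧ ∀ v ∈ ratVec F₀ P, f v v = 0 → f v a = 0 → v = 0

variable (C : Ctx σ f F₀ P M)
include C

/-- the rational vectors do not lie in a plane -/
theorem exists_outside (u v : ι → F) : ∃ x ∈ ratVec F₀ P, ∀ s t : F, x ≠ s • u + t • v := by
  by_contra h; push Not at h
  let S : Submodule F (ι → F) := Submodule.span F (Set.range ![u, v])
  have hle : ∀ x, act P x ∈ S := by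
    intro x
    induction x using Pi.single_induction with
    | zero => rw [map_zero]; exact S.zero_mem
    | add a b ha hb => rw [map_add]; exact S.add_mem ha hb
    | single i k =>
      rw [show (Pi.single i k : ι → F) = k • Pi.single i 1 by ext j; simp [Pi.single_apply], map_smul]
      refine S.smul_mem k ?_
      obtain ⟨s, t, e⟩ := h _ (ratVec_basis F₀ P i)
      rw [e]
      exact S.add_mem (S.smul_mem s (Submodule.subset_span ⟨0, rfl⟩)) (S.smul_mem t (Submodule.subset_span ⟨1, rfl⟩))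
  have htop : (⊤ : Submodule F (ι → F)) ≤ S := fun x _ => by
    have := hle (act P⁻¹ x); rwa [act_act_inv] at this
  have h1 := Submodule.finrank_mono htop
  have h2 : Module.finrank F S ≤ 2 := (finrank_range_le_card ![u, v]).trans_eq (Fintype.card_fin 2)
  rw [finrank_top, Module.finrank_fintype_fun_eq_card, C.three] at h1
  omega

theorem exists_rframe : ∃ l l' m : ι → F, ∃ d, RFrame f F₀ P l l' m d := by
  classical
  have hU := C.unit
  let em := UOrth.embL F₀ P
  let b : LinearMap.BilinMap F₀ (ι → F₀) F₀ :=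
    LinearMap.mk₂ F₀ (fun u v => ⟨f (em u) (em v), C.rat _ (UOrth.embL_mem u) _ (UOrth.embL_mem v)⟩)
      (fun u u' v => Subtype.ext (by simp [em, map_add, add_left hU]))
      (fun c u v => Subtype.ext (by
        show f (em (c • u)) _ = (c : F) * f _ _
        rw [map_smul]; exact smul_left hU (c : F) _ _))
      (fun u v v' => Subtype.ext (by simp [em, map_add, add_right hU]))
      (fun c u v => Subtype.ext (by
        show f _ (em (c • v)) = (c : F) * f _ _
        rw [map_smul]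
        show f _ ((c : F) • em v) = _
        rw [smul_right hU, real C c.2]))
  have hB : ∀ u v, ((QuadraticMap.polar (⇑b.toQuadraticMap) u v : F₀) : F) = 2 * f (em u) (em v) := by
    intro u v
    show f (em (u + v)) (em (u + v)) - f (em u) (em u) - f (em v) (em v) = _
    rw [map_add, add_left hU, add_right hU, add_right hU,
      symm C (UOrth.embL_mem u) (UOrth.embL_mem v)]
    ring
  have hnd : (QuadraticMap.polarBilin b.toQuadraticMap).Nondegenerate := by
    refine ⟨fun u hu => ?_, fun u hu => ?_⟩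
    all_goals
      refine UOrth.embL_injective (P := P) ?_
      rw [map_zero]
      refine flinU_injective hU (ext_of_ratVec F₀ P fun y hy => ?_)
      obtain ⟨v, rfl⟩ := UOrth.exists_embL hy
      rw [flinU_apply, flinU_apply, zero_right hU]
      have e := congrArg Subtype.val (hu v)
      rw [QuadraticMap.polarBilin_apply_apply, hB] at e
    · rw [symm C (UOrth.embL_mem u) (UOrth.embL_mem v)]
      exact (mul_eq_zero.1 e).resolve_left C.two
    · exact (mul_eq_zero.1 e).resolve_left C.two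
  obtain ⟨u, hu0, huu⟩ := QForm.exists_singular hnd (by
    rw [Module.finrank_fintype_fun_eq_card, C.three])
  obtain ⟨L, hL⟩ : ∃ L, L = em u := ⟨_, rfl⟩
  have hLr : L ∈ ratVec F₀ P := hL ▸ UOrth.embL_mem u
  have hLL : f L L = 0 := hL ▸ congrArg Subtype.val huu
  have hL0 : L ≠ 0 := fun h => hu0 (UOrth.embL_injective (P := P) (by rw [map_zero]; exact hL.symm.trans h))
  obtain ⟨z, hz, hzL⟩ : ∃ z ∈ ratVec F₀ P, f z L ≠ 0 := by
    by_contra h; push Not at h
    exact hL0 (flinU_injective hU (ext_of_ratVec F₀ P fun y hy => by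
      rw [flinU_apply, flinU_apply, zero_right hU, h y hy]))
  obtain ⟨z', hz'def⟩ : ∃ z', z' = (f z L)⁻¹ • z := ⟨_, rfl⟩
  have hz'r : z' ∈ ratVec F₀ P := hz'def ▸ ratVec_smul (F₀.inv_mem (C.rat _ hz _ hLr)) hz
  have hz'L : f z' L = 1 := by rw [hz'def, smul_left hU, inv_mul_cancel₀ hzL]
  have hLz' : f L z' = 1 := by rw [symm C hz'r hLr, hz'L]
  obtain ⟨L', hL'⟩ : ∃ L', L' = z' - (f z' z' / 2) • L := ⟨_, rfl⟩
  have hk : f z' z' / 2 ∈ F₀ := F₀.div_mem (C.rat _ hz'r _ hz'r) (mem_two C)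
  have hL'r : L' ∈ ratVec F₀ P := hL' ▸ Submodule.sub_mem _ hz'r (ratVec_smul hk hLr)
  have hL'L' : f L' L' = 0 := by
    simp only [hL', sub_left hU, sub_right hU, smul_left hU, smul_right hU, hLL, hz'L, hLz', real C hk]
    field_simp [C.two]
    ring
  have hLL' : f L L' = 1 := by rw [hL', sub_right hU, smul_right hU, hLL, hLz', mul_zero, sub_zero]
  have hL'L : f L' L = 1 := by rw [symm C hLr hL'r, hLL']
  obtain ⟨x, hx, hxout⟩ := exists_outside C L L'
  obtain ⟨N, hN⟩ : ∃ N, N = x - f x L' • L - f x L • L' := ⟨_, rfl⟩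
  have hNr : N ∈ ratVec F₀ P := hN ▸ Submodule.sub_mem _ (Submodule.sub_mem _ hx
    (ratVec_smul (C.rat _ hx _ hL'r) hLr)) (ratVec_smul (C.rat _ hx _ hLr) hL'r)
  have hNL : f N L = 0 := by simp [hN, sub_left hU, smul_left hU, hLL, hL'L]
  have hNL' : f N L' = 0 := by simp [hN, sub_left hU, smul_left hU, hL'L', hLL']
  refine ⟨L, L', N, _, ⟨C.three, hLL, hL'L', hLL', eq_zero_symm hU hNL, eq_zero_symm hU hNL', rfl, fun h => ?_⟩,
    hLr, hL'r, hNr⟩
  obtain ⟨k, hk⟩ := Submodule.mem_span_singleton.1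
    (dep_of_iso_orth_three hU C.three.le hL0 hLL h (eq_zero_symm hU hNL))
  rw [← hk, smul_left hU, hLL', mul_one] at hNL'
  refine hxout (f x L') (f x L) ?_
  rw [hNL', zero_smul] at hk
  rw [← hk, eq_comm, sub_sub, sub_eq_zero] at hN
  exact hN

/-- a frame through a rational isotropic point on the polar -/
theorem rframe_of_iso {a v : ι → F} (ha : a ∈ ratVec F₀ P) (ha0 : f a a ≠ 0) (hv : v ∈ ratVec F₀ P)
    (hv0 : v ≠ 0) (hvv : f v v = 0) (hva : f v a = 0) : ∃ v' d, RFrame f F₀ P v v' a d := by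
  have hU := C.unit
  have hav := eq_zero_symm hU hva
  obtain ⟨x, hx, hxv⟩ : ∃ x ∈ ratVec F₀ P, f x v ≠ 0 := by
    by_contra h; push Not at h
    exact hv0 (flinU_injective hU (ext_of_ratVec F₀ P fun y hy => by
      rw [flinU_apply, flinU_apply, zero_right hU, h y hy]))
  obtain ⟨z, hz⟩ : ∃ z, z = (f x v)⁻¹ • (x - (f x a / f a a) • a) := ⟨_, rfl⟩
  have hzr : z ∈ ratVec F₀ P := hz ▸ ratVec_smul (F₀.inv_mem (C.rat _ hx _ hv))
    (Submodule.sub_mem _ hx (ratVec_smul (F₀.div_mem (C.rat _ hx _ ha) (C.rat _ ha _ ha)) ha))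
  have hza : f z a = 0 := by rw [hz, smul_left hU, sub_left hU, smul_left hU, div_mul_cancel₀ _ ha0]; simp
  have hzv : f z v = 1 := by
    rw [hz, smul_left hU, sub_left hU, smul_left hU, hav, mul_zero, sub_zero, inv_mul_cancel₀ hxv]
  have hvz : f v z = 1 := by rw [symm C hzr hv, hzv]
  have hk : f z z / 2 ∈ F₀ := F₀.div_mem (C.rat _ hzr _ hzr) (mem_two C)
  refine ⟨z - (f z z / 2) • v, _, ⟨C.three, hvv, ?_, ?_, hva, ?_, rfl, ha0⟩, hv,
    Submodule.sub_mem _ hzr (ratVec_smul hk hv), ha⟩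
  · simp only [sub_left hU, sub_right hU, smul_left hU, smul_right hU, hvv, hzv, hvz, real C hk]
    field_simp [C.two]
    ring
  · rw [sub_right hU, smul_right hU, hvv, hvz, mul_zero, sub_zero]
  · rw [sub_left hU, smul_left hU, hza, hva, mul_zero, sub_zero]

/-- rotations about an elliptic point -/
theorem exists_rot {a : ι → F} (ha : Ell f F₀ P a) : ∃ g ∈ M, act g a = a ∧ g ^ 4 ≠ 1 ∧
    ∀ p, p ≠ 0 → f p p = 0 → f p a = 0 → ¬ Maps g p p := by
  have hU := C.unit
  obtain ⟨har, ha0, hell⟩ := ha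
  obtain ⟨x, hx, hxout⟩ := exists_outside C a a
  obtain ⟨b, hb⟩ : ∃ b, b = x - (f x a / f a a) • a := ⟨_, rfl⟩
  have hbr : b ∈ ratVec F₀ P := hb ▸ Submodule.sub_mem _ hx
    (ratVec_smul (F₀.div_mem (C.rat _ hx _ har) (C.rat _ har _ har)) har)
  have hba : f b a = 0 := by rw [hb, sub_left hU, smul_left hU, div_mul_cancel₀ _ ha0, sub_self]
  obtain ⟨β, hβ⟩ : ∃ β, β = f b b := ⟨_, rfl⟩
  have hβ0 : β ≠ 0 := fun h => hxout (f x a / f a a) 0 (by
    have := hell b hbr (hβ ▸ h) hba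
    rw [hb, sub_eq_zero] at this
    rw [zero_smul, add_zero, ← this])
  obtain ⟨y, hy, hyout⟩ := exists_outside C a b
  obtain ⟨e, he⟩ : ∃ e, e = y - (f y a / f a a) • a - (f y b / β) • b := ⟨_, rfl⟩
  have hβF : β ∈ F₀ := hβ ▸ C.rat _ hbr _ hbr
  have her : e ∈ ratVec F₀ P := he ▸ Submodule.sub_mem _ (Submodule.sub_mem _ hy
    (ratVec_smul (F₀.div_mem (C.rat _ hy _ har) (C.rat _ har _ har)) har))
    (ratVec_smul (F₀.div_mem (C.rat _ hy _ hbr) hβF) hbr)
  have hea : f e a = 0 := by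
    rw [he, sub_left hU, sub_left hU, smul_left hU, smul_left hU, div_mul_cancel₀ _ ha0, hba]; ring
  have heb : f e b = 0 := by
    rw [he, sub_left hU, sub_left hU, smul_left hU, smul_left hU, ← hβ, div_mul_cancel₀ _ hβ0,
      eq_zero_symm hU hba]; ring
  have hbe := eq_zero_symm hU heb
  obtain ⟨ε, hε⟩ : ∃ ε, ε = f e e := ⟨_, rfl⟩
  have hε0 : ε ≠ 0 := fun h => hyout (f y a / f a a) (f y b / β) (by
    have := hell e her (hε ▸ h) hea
    rw [he, sub_sub, sub_eq_zero] at this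
    exact this)
  have hεF : ε ∈ F₀ := hε ▸ C.rat _ her _ her
  obtain ⟨l, l', m, d, R⟩ := exists_rframe C
  -- the parameter
  obtain ⟨t, ht, ht0, htne⟩ : ∃ t ∈ F₀, t ≠ 0 ∧ t * t * ε ≠ β := by
    obtain ⟨μ, hμ, hμ0, hμ1⟩ := exists_mu C R
    by_cases h : ε = β
    · exact ⟨μ, hμ, hμ0, fun h' => hμ1 (mul_right_cancel₀ hε0 (by rw [h', one_mul, h]))⟩
    · exact ⟨1, F₀.one_mem, one_ne_zero, by rwa [one_mul, one_mul]⟩
  obtain ⟨c, hc⟩ : ∃ c, c = b + t • e := ⟨_, rfl⟩
  have hcr : c ∈ ratVec F₀ P := hc ▸ Submodule.add_mem _ hbr (ratVec_smul ht her)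
  have hca : f c a = 0 := by rw [hc, add_left hU, smul_left hU, hba, hea]; ring
  obtain ⟨Q, hQ⟩ : ∃ Q, Q = β + t * t * ε := ⟨_, rfl⟩
  have hcc : f c c = Q := by
    simp only [hc, hQ, add_left hU, add_right hU, smul_left hU, smul_right hU, ← hβ, ← hε, hbe, heb, real C ht]
    ring
  have hQ0 : Q ≠ 0 := fun h => by
    have := hell c hcr (hcc.trans h) hca
    have h2 := congrArg (f · e) this
    simp only [hc, add_left hU, smul_left hU, hbe, ← hε, zero_left hU, zero_add] at h2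
    exact mul_ne_zero ht0 hε0 h2
  obtain ⟨H₁, hH₁, h1, -⟩ := hom_mem C hbr (hβ ▸ hβ0)
  obtain ⟨H₂, hH₂, h2, -⟩ := hom_mem C hcr (hcc ▸ hQ0)
  obtain ⟨g, hg⟩ : ∃ g, g = H₂ * H₁ := ⟨_, rfl⟩
  obtain ⟨A, hA⟩ : ∃ A, A = (β - t * t * ε) / Q := ⟨_, rfl⟩
  obtain ⟨B, hB⟩ : ∃ B, B = 2 * t / Q := ⟨_, rfl⟩
  have hA0 : A ≠ 0 := hA ▸ div_ne_zero (sub_ne_zero.2 (Ne.symm htne)) hQ0
  have hB0 : B ≠ 0 := hB ▸ div_ne_zero (mul_ne_zero C.two ht0) hQ0
  have hAB : A * A + ε * β * (B * B) = 1 := by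
    rw [hA, hB]; field_simp; rw [hQ]; ring
  have hgb : act g b = A • b + (β * B) • e := by
    rw [hg, act_mul, isHom_centre hU (hβ ▸ hβ0) h1, h2 b, hcc, hc, add_right hU, smul_right hU, ← hβ, hbe, hA, hB]
    match_scalars <;> field_simp <;> (first | ring1 | (rw [hQ]; ring1))
  have hge : act g e = (-(ε * B)) • b + A • e := by
    rw [hg, act_mul, isHom_perp hU h1 heb, map_neg, h2 e, hcc, hc, add_right hU, smul_right hU, ← hε, heb,
      real C ht, hA, hB]
    match_scalars <;> field_simp <;> (first | ring1 | (rw [hQ]; ring1))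
  have hga : act g a = a := by
    rw [hg, act_mul, isHom_perp hU h1 (eq_zero_symm hU hba), map_neg, isHom_perp hU h2 (eq_zero_symm hU hca),
      neg_neg]
  have hgM : g ∈ M := hg ▸ M.mul_mem hH₂ hH₁
  refine ⟨g, hgM, hga, fun h4 => ?_, fun p hp0 hpp hpa hmap => ?_⟩
  · have e4 := congrArg (fun g => act g b) h4
    simp only [pow_succ, pow_zero, one_mul, act_mul, hgb, hge, map_add, map_smul, act_one] at e4
    have q1 := congrArg (f · e) e4
    have q2 := congrArg (f · b) e4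
    simp only [add_left hU, smul_left hU, ← hβ, ← hε, hbe, heb, mul_zero, add_zero, zero_add] at q1 q2
    have hA' : A * A - ε * β * (B * B) = 0 := by
      have : 4 * (β * ε * A * B) * (A * A - ε * β * (B * B)) = 0 := by linear_combination q1
      refine (mul_eq_zero.1 this).resolve_left (mul_ne_zero ?_ (mul_ne_zero (mul_ne_zero
        (mul_ne_zero hβ0 hε0) hA0) hB0))
      rw [show (4 : F) = 2 * 2 by norm_num]
      exact mul_ne_zero C.two C.two
    have : ((A * A - ε * β * (B * B)) ^ 2 - 4 * (ε * β) * (A * B) ^ 2 - 1) * β = 0 := by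
      linear_combination q2
    have h5 := (mul_eq_zero.1 this).resolve_right hβ0
    rw [hA'] at h5
    exact C.two (by
      linear_combination -h5 - (A * A + ε * β * (B * B) + 1) * hAB + (A * A - ε * β * (B * B)) * hA')
  · obtain ⟨k, hk⟩ := hmap
    -- coordinates of `p`
    obtain ⟨r, hr⟩ : ∃ r, r = p - (f p b / β) • b - (f p e / ε) • e := ⟨_, rfl⟩
    have hr0 : r = 0 := by
      have hra : f r a = 0 := by
        rw [hr, sub_left hU, sub_left hU, smul_left hU, smul_left hU, hpa, hba, hea]; ring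
      have hrb : f r b = 0 := by
        rw [hr, sub_left hU, sub_left hU, smul_left hU, smul_left hU, ← hβ, heb, div_mul_cancel₀ _ hβ0]; ring
      have hre : f r e = 0 := by
        rw [hr, sub_left hU, sub_left hU, smul_left hU, smul_left hU, ← hε, hbe, div_mul_cancel₀ _ hε0]; ring
      have hli : LinearIndependent F ![a, b, e] := by
        rw [Fintype.linearIndependent_iff]
        intro g hg
        simp only [Fin.sum_univ_three, Matrix.cons_val_zero, Matrix.cons_val_one, Matrix.cons_val_two,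
          Matrix.head_cons, Matrix.tail_cons] at hg
        have e1 := congrArg (f · a) hg
        have e2 := congrArg (f · b) hg
        have e3 := congrArg (f · e) hg
        simp only [add_left hU, smul_left hU, zero_left hU, hba, hea, eq_zero_symm hU hba, eq_zero_symm hU hea,
          heb, hbe, ← hβ, ← hε, mul_zero, add_zero, zero_add] at e1 e2 e3
        intro i
        fin_cases i
        · exact (mul_eq_zero.1 e1).resolve_right ha0
        · exact (mul_eq_zero.1 e2).resolve_right hβ0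
        · exact (mul_eq_zero.1 e3).resolve_right hε0
      have hspan : Submodule.span F (Set.range ![a, b, e]) = ⊤ :=
        hli.span_eq_top_of_card_eq_finrank (by rw [Module.finrank_fintype_fun_eq_card, C.three, Fintype.card_fin])
      by_contra hr0
      obtain ⟨y, hy⟩ := (hU.nondegenerate r hr0).1
      obtain ⟨cs, hcs⟩ := (Submodule.mem_span_range_iff_exists_fun F).1 (hspan ▸ Submodule.mem_top : y ∈ _)
      rw [← hcs] at hy
      simp [Fin.sum_univ_three, add_left hU, add_right hU, smul_left hU, smul_right hU, hra, hrb, hre,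
        eq_zero_symm hU hra, eq_zero_symm hU hrb, eq_zero_symm hU hre] at hy
    obtain ⟨X, Y, hp⟩ : ∃ X Y : F, p = X • b + Y • e := ⟨f p b / β, f p e / ε, by
      rw [hr, sub_sub, sub_eq_zero] at hr0; exact hr0⟩
    rw [hp, map_add, map_smul, map_smul, hgb, hge] at hk
    have q1 := congrArg (f · b) hk
    have q2 := congrArg (f · e) hk
    simp only [add_left hU, smul_left hU, ← hβ, ← hε, hbe, heb, mul_zero, add_zero, zero_add] at q1 q2
    have e1 : X * A - Y * (ε * B) = k * X := mul_right_cancel₀ hβ0 (by linear_combination q1)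
    have e2 : X * (β * B) + Y * A = k * Y := mul_right_cancel₀ hε0 (by linear_combination q2)
    have hY0 : Y ≠ 0 := fun h => by
      rw [h] at e2
      have : X * (β * B) = 0 := by linear_combination e2
      have hX := (mul_eq_zero.1 this).resolve_right (mul_ne_zero hβ0 hB0)
      exact hp0 (by rw [hp, hX, h, zero_smul, zero_smul, zero_add])
    have hXX : β * (X * X) + ε * (Y * Y) = 0 := by
      have : B * (β * (X * X) + ε * (Y * Y)) = 0 := by linear_combination X * e2 - Y * e1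
      exact (mul_eq_zero.1 this).resolve_left hB0
    have hXN : β * (X * σ X) + ε * (Y * σ Y) = 0 := by
      rw [hp] at hpp
      simp only [add_left hU, add_right hU, smul_left hU, smul_right hU, ← hβ, ← hε, hbe, heb] at hpp
      linear_combination hpp
    obtain ⟨κ, hκ⟩ : ∃ κ, κ = X / Y := ⟨_, rfl⟩
    have hκ2 : β * (κ * κ) + ε = 0 := by rw [hκ]; field_simp; linear_combination hXX
    have hκN : β * (κ * σ κ) + ε = 0 := by
      rw [hκ, map_div₀]; field_simp [(map_ne_zero σ).2 hY0]; linear_combination hXN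
    have hκ0 : κ ≠ 0 := fun h => hε0 (by rw [h] at hκ2; linear_combination hκ2)
    have hκr : σ κ = κ :=
      mul_left_cancel₀ hκ0 (mul_left_cancel₀ hβ0 (by linear_combination hκN - hκ2))
    have hv := hell (κ • b + e) (Submodule.add_mem _ (ratVec_smul ((C.fixed κ).2 hκr) hbr) her)
      (by simp only [add_left hU, add_right hU, smul_left hU, smul_right hU, ← hβ, ← hε, hbe, heb, hκr]
          linear_combination hκ2)
      (by rw [add_left hU, smul_left hU, hba, hea]; ring)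
    have := congrArg (f · e) hv
    simp only [add_left hU, smul_left hU, hbe, ← hε, zero_left hU, mul_zero, zero_add] at this
    exact hε0 this

/-- elliptic points and hyperbolic points are not fused -/
theorem fusion (hN : NoFlag C) (R : RFrame f F₀ P l l' m d) {a : ι → F} (ha : Ell f F₀ P a) {g : GL ι F}
    (hg : g ∈ M) (hga : Maps g a m) : False := by
  have hU := C.unit
  obtain ⟨k, hk⟩ := hga
  obtain ⟨r, hr, hra, hr4, hrp⟩ := exists_rot C ha
  have hk0 : k ≠ 0 := fun h => ha.2.1 (by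
    rw [act_injective g (show act g a = act g 0 by rw [hk, h, zero_smul, map_zero]), zero_left hU])
  have hgm : act g⁻¹ m = k⁻¹ • a := act_injective g (by rw [act_act_inv, map_smul, hk, inv_smul_smul₀ hk0])
  have hym : act (g * r * g⁻¹) m = m := by
    rw [act_mul, act_mul, hgm, map_smul, hra, map_smul, hk, inv_smul_smul₀ hk0]
  rcases dichotomy C R hN (M.mul_mem (M.mul_mem hg hr) (M.inv_mem hg)) hym with ⟨p, hp0, hpp, hpm, hp⟩ | h4
  · obtain ⟨c, hc⟩ := hp
    refine hrp (act g⁻¹ p) (fun h => hp0 (act_injective g⁻¹ (h.trans (map_zero _).symm))) ?_ ?_ ⟨c, ?_⟩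
    · rw [mem_uiso.1 (C.iso (M.inv_mem hg)), hpp]
    · have := mem_uiso.1 (C.iso (M.inv_mem hg)) p m
      rw [hgm, hpm, smul_right hU] at this
      exact (mul_eq_zero.1 this).resolve_left ((map_ne_zero σ).2 (inv_ne_zero hk0))
    · apply act_injective g
      rw [map_smul, act_act_inv, ← hc, act_mul, act_mul]
  · rw [conj_pow] at h4
    exact hr4 (conj_eq_one_iff.1 h4)

/-- the elements fixing `m` form the split torus -/
theorem fix_all (hN : NoFlag C) (R : RFrame f F₀ P l l' m d) {g : GL ι F} (hg : g ∈ M) (hgm : act g m = m) :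
    Maps g l l := by
  by_contra hgl
  have hU := C.unit
  have hf := R.frame
  obtain ⟨k, hk, x₀, b, hx₀, hx₀s, hbF, hb1, hkm, k1, k2, kx, hb⟩ := exists_kelt C R hN hg hgm hgl
  obtain ⟨h7, -⟩ := kelt_seven C R hN hk hx₀ hbF hb1 hkm k1 k2 kx hb
  haveI : Fintype F₀ := Fintype.ofFinite _
  have hm1 : ∀ t ∈ F₀, t * t ≠ (-1 : F) := fun t ht e => by
    have := (FiniteField.isSquare_neg_one_iff (F := F₀)).1 ⟨⟨t, ht⟩, Subtype.ext e.symm⟩
    rw [← Nat.card_eq_fintype_card, h7] at this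
    omega
  have hx2 : x₀ * x₀ ∈ F₀ := (C.fixed _).2 (by rw [map_mul, eq_neg_of_add_eq_zero_right hx₀s]; ring)
  have hx2' : ∀ t ∈ F₀, t * t ≠ x₀ * x₀ := fun t ht e => by
    have hxF : x₀ ∈ F₀ := by
      rcases mul_self_eq_mul_self_iff.1 e with h | h
      · exact h ▸ ht
      · rw [show x₀ = -t by rw [h, neg_neg]]; exact F₀.neg_mem ht
    rw [real C hxF] at hx₀s
    exact hx₀ ((mul_eq_zero.1 (show 2 * x₀ = 0 by linear_combination hx₀s)).resolve_left C.two)
  obtain ⟨p, hp, hp2⟩ := (sq_of_nonsq C (F₀.neg_mem hbF) hx2 hb hx2').1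
  have hp0 : p ≠ 0 := fun h => by
    rw [h, zero_mul, eq_comm, mul_eq_zero, or_iff_left (mul_ne_zero hx₀ hx₀)] at hp2
    exact hb 0 F₀.zero_mem (by rw [hp2, zero_mul])
  obtain ⟨ξ, hξ⟩ : ∃ ξ, ξ = p / x₀ := ⟨_, rfl⟩
  have hξ1 : ξ ≠ 1 := fun h => by
    rw [hξ, div_eq_one_iff_eq hx₀] at h
    rw [← h, real C hp] at hx₀s
    exact hp0 ((mul_eq_zero.1 (show 2 * p = 0 by linear_combination hx₀s)).resolve_left C.two)
  have hξ2 : ξ * ξ = -b := by rw [hξ, div_mul_div_comm, hp2, mul_div_cancel_right₀ _ (mul_ne_zero hx₀ hx₀)]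
  have hk' : Maps k (l' + p • l) (l' + (-p) • l) := by
    have e := kx ξ hξ1
    rw [show (ξ + b) / (ξ - 1) = -ξ by rw [div_eq_iff (sub_ne_zero.2 hξ1)]; linear_combination hξ2] at e
    rwa [pt, pt, neg_mul, hξ, div_mul_cancel₀ _ hx₀] at e
  have hQ : ∀ w, w ∈ F₀ → f (l' + w • l) (l' + w • l) = 2 * w := fun w hw => by
    simp only [add_left hU, add_right hU, smul_left hU, smul_right hU, hf.ll, hf.ll', hf.l'l hU, hf.l'l',
      real C hw]
    ring
  have hrat : ∀ w, w ∈ F₀ → l' + w • l ∈ ratVec F₀ P := fun w hw =>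
    Submodule.add_mem _ R.rl' (ratVec_smul hw R.rl)
  have hd := hf.d0
  have hdF := d_mem C R
  -- one of the two points is hyperbolic, the other elliptic
  have hhyp : ∀ w ∈ F₀, w ≠ 0 → (∃ t ∈ F₀, t * t = 2 * w / d) →
      (∃ v v' d', RFrame f F₀ P v v' (l' + w • l) d') ∧ Ell f F₀ P (l' + (-w) • l) := by
    rintro w hw hw0 ⟨t, ht, ht2⟩
    have hQw : f (l' + w • l) (l' + w • l) ≠ 0 := by rw [hQ w hw]; exact mul_ne_zero C.two hw0
    refine ⟨?_, hrat _ (F₀.neg_mem hw), by rw [hQ _ (F₀.neg_mem hw)]; exact mul_ne_zero C.two (neg_ne_zero.2 hw0),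
      fun v hv hvv hva => ?_⟩
    · refine ⟨l' + (-w) • l + t • m, rframe_of_iso C (hrat w hw) hQw
        (Submodule.add_mem _ (hrat _ (F₀.neg_mem hw)) (ratVec_smul ht R.rm)) (fun h => ?_) ?_ ?_⟩
      · have := congrArg (f · l) h
        simp only [add_left hU, smul_left hU, hf.ll, hf.l'l hU, hf.ml hU, zero_left hU, mul_zero, add_zero] at this
        exact one_ne_zero this
      · simp only [add_left hU, add_right hU, smul_left hU, smul_right hU, hf.ll, hf.ll', hf.l'l hU,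
          hf.l'l', hf.lm, hf.l'm, hf.ml hU, hf.ml' hU, hf.mm, map_neg, real C hw, real C ht]
        rw [eq_div_iff hd] at ht2
        linear_combination ht2
      · simp only [add_left hU, add_right hU, smul_left hU, smul_right hU, hf.ll, hf.ll', hf.l'l hU,
          hf.l'l', hf.ml hU, hf.ml' hU, real C hw]
        ring
    · obtain ⟨A, B, D, hexp, hBD⟩ : ∃ A B D : F, v = A • l + B • l' + D • m ∧ B ∈ F₀ ∧ D ∈ F₀ :=
        ⟨_, _, _, hf.expand hU v, C.rat _ hv _ R.rl, F₀.div_mem (C.rat _ hv _ R.rm) hdF⟩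
      have hAF : A ∈ F₀ := by
        have := congrArg (f · l') hexp
        simp only [add_left hU, smul_left hU, hf.ll', hf.l'l', hf.ml' hU, mul_one, mul_zero, add_zero] at this
        exact this ▸ C.rat _ hv _ R.rl'
      rw [hexp] at hva hvv
      simp only [add_left hU, add_right hU, smul_left hU, smul_right hU, hf.ll, hf.ll', hf.l'l hU,
        hf.l'l', hf.lm, hf.l'm, hf.ml hU, hf.ml' hU, hf.mm, map_neg, real C hw, real C hAF, real C hBD.1,
        real C hBD.2] at hva hvv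
      have hA : A = w * B := by linear_combination hva
      rcases eq_or_ne B 0 with hB | hB
      · rw [hA, hB] at hvv
        have : D * D * d = 0 := by linear_combination hvv
        have hD := mul_self_eq_zero.1 ((mul_eq_zero.1 this).resolve_right hd)
        rw [hexp, hA, hB, hD]; simp
      exfalso
      have ht0 : t ≠ 0 := fun h => by
        rw [h, zero_mul, eq_comm, div_eq_zero_iff, or_iff_left hd] at ht2
        exact mul_ne_zero C.two hw0 ht2
      refine hm1 (D / (B * t)) (F₀.div_mem hBD.2 (F₀.mul_mem hBD.1 ht)) ?_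
      rw [eq_div_iff hd] at ht2
      rw [hA] at hvv
      field_simp
      refine mul_right_cancel₀ hd ?_
      linear_combination hvv + B * B * ht2
  by_cases hsq : ∃ t ∈ F₀, t * t = 2 * p / d
  · obtain ⟨⟨v, v', d', R'⟩, hell⟩ := hhyp p hp hp0 hsq
    have hp1 : l' + p • l ≠ 0 := fun h => by
      have := congrArg (f · l) h
      simp [add_left hU, smul_left hU, hf.ll, hf.l'l hU, zero_left hU] at this
    exact fusion C hN R' hell (M.inv_mem hk) (hk'.inv hp1)
  · push Not at hsq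
    obtain ⟨t, ht, ht2⟩ := (sq_of_nonsq C (F₀.neg_mem F₀.one_mem)
      (F₀.div_mem (F₀.mul_mem (mem_two C) hp) hdF) hm1 hsq).1
    obtain ⟨⟨v, v', d', R'⟩, hell⟩ := hhyp (-p) (F₀.neg_mem hp) (neg_ne_zero.2 hp0)
      ⟨t, ht, by rw [ht2]; ring⟩
    rw [neg_neg] at hell
    exact fusion C hN R' hell hk hk'

/-- an involution commuting with the homology at `m` -/
theorem inv_case (hN : NoFlag C) (R : RFrame f F₀ P l l' m d) {i z : GL ι F} (hi : IsHom f i m)
    (hz : z ∈ M) (hzz : z * z = 1) (hz1 : z ≠ 1) (hzi : z * i = i * z) :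
    z = i ∨ ∃ b ∈ ratVec F₀ P, f b b ≠ 0 ∧ f b m = 0 ∧ IsHom f z b := by
  have hU := C.unit
  have hf := R.frame
  have him : act i m = m := isHom_centre hU (by rw [hf.mm]; exact hf.d0) hi
  have hfix : act z m = (f (act z m) m / f m m) • m :=
    isHom_fixed hU C.two hi (by rw [← act_mul, ← hzi, act_mul, him])
  obtain ⟨μ, hμ⟩ : ∃ μ, act z m = μ • m := ⟨_, hfix⟩
  have hμ2 : μ * μ = 1 := by
    have e : act z (act z m) = m := by rw [← act_mul, hzz, act_one]
    rw [hμ, map_smul, hμ, smul_smul] at e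
    have := congrArg (f · m) e
    simp only [smul_left hU, hf.mm] at this
    exact mul_right_cancel₀ hf.d0 (by rw [this, one_mul])
  rcases mul_self_eq_one_iff.1 hμ2 with rfl | rfl
  · rw [one_smul] at hμ
    left
    obtain ⟨ν, -, -, zl, zl'⟩ := fix_line C R hN hz hμ (fix_all C hN R hz hμ)
    have hν : ν * ν = 1 := by
      have e : act z (act z l) = l := by rw [← act_mul, hzz, act_one]
      rw [zl, map_smul, zl, smul_smul] at e
      have := congrArg (f · l') e
      simp only [smul_left hU, hf.ll'] at this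
      linear_combination this
    rcases mul_self_eq_one_iff.1 hν with rfl | rfl
    · exact absurd (hf.gl_ext hU (by rw [zl, one_smul, act_one]) (by rw [zl', inv_one, one_smul, act_one])
        (by rw [hμ, act_one])) hz1
    · refine hf.gl_ext hU ?_ ?_ (hμ.trans him.symm)
      · rw [zl, isHom_perp hU hi hf.lm, neg_one_smul]
      · rw [zl', isHom_perp hU hi hf.l'm, inv_neg, inv_one, neg_one_smul]
  · right
    rw [neg_one_smul] at hμ
    obtain ⟨W, hW, -, Wl, Wl', Wm⟩ := exists_swap C R F₀.one_mem one_ne_zero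
    rw [one_smul] at Wl
    rw [inv_one, one_smul] at Wl'
    have hWz : act (W * z) m = m := by rw [act_mul, hμ, map_neg, Wm, neg_neg]
    obtain ⟨ν, hν, hν0, e1, e2⟩ := fix_line C R hN (M.mul_mem hW hz) hWz (fix_all C hN R (M.mul_mem hW hz) hWz)
    rw [act_mul] at e1 e2
    have zl : act z l = ν • l' := act_injective W (by rw [e1, map_smul, Wl'])
    have zl' : act z l' = ν⁻¹ • l := act_injective W (by rw [e2, map_smul, Wl])
    obtain ⟨g, -, hg, gl, gl', gm⟩ := exists_swap C R hν hν0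
    have hzg : z = g := hf.gl_ext hU (zl.trans gl.symm) (zl'.trans gl'.symm) (hμ.trans gm.symm)
    refine ⟨l + ν • l', Submodule.add_mem _ R.rl (ratVec_smul hν R.rl'), ?_, ?_, hzg ▸ hg⟩
    · simp only [add_left hU, add_right hU, smul_left hU, smul_right hU, hf.ll, hf.ll', hf.l'l hU,
        hf.l'l', real C hν]
      intro h
      exact mul_ne_zero C.two hν0 (by linear_combination h)
    · rw [add_left hU, smul_left hU, hf.lm, hf.l'm]; ring

/-- the image of an elliptic point -/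
theorem key (hN : NoFlag C) (R : RFrame f F₀ P l l' m d) {a : ι → F} (ha : Ell f F₀ P a) {g : GL ι F}
    (hg : g ∈ M) : (∃ k : F, ∃ a₀ ∈ ratVec F₀ P, act g a = k • a₀) ∨
      ∃ b ∈ ratVec F₀ P, f b b ≠ 0 ∧ f b m = 0 ∧ f (act g a) b = 0 := by
  have hU := C.unit
  have hf := R.frame
  have hm0 : f m m ≠ 0 := by rw [hf.mm]; exact hf.d0
  obtain ⟨i, hiM, hi, -⟩ := hom_mem C R.rm hm0
  obtain ⟨r, hrM, hr, -⟩ := hom_mem C ha.1 ha.2.1
  obtain ⟨c, hc⟩ : ∃ c, c = act g a := ⟨_, rfl⟩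
  rw [← hc]
  obtain ⟨j, hjdef⟩ : ∃ j, j = g * r * g⁻¹ := ⟨_, rfl⟩
  have hjM : j ∈ M := hjdef ▸ M.mul_mem (M.mul_mem hg hrM) (M.inv_mem hg)
  have hj : IsHom f j c := hjdef ▸ hc ▸ isHom_conj hU (C.iso hg) hr
  have hc0 : f c c ≠ 0 := by rw [hc, mem_uiso.1 (C.iso hg)]; exact ha.2.1
  have hnf : ¬ ∃ h ∈ M, Maps h m c := by
    rintro ⟨h, hh, e⟩
    refine fusion C hN R ha (M.mul_mem (M.inv_mem hh) hg) (Maps.comp (v := c) ⟨1, by rw [hc, one_smul]⟩ ?_)
    exact e.inv (fun h0 => hm0 (by rw [h0, zero_left hU]))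
  have hii := isHom_sq hU hm0 hi
  have hjj := isHom_sq hU hc0 hj
  have hiv : i⁻¹ = i := inv_eq_of_mul_eq_one_right hii
  have hjv : j⁻¹ = j := inv_eq_of_mul_eq_one_right hjj
  have hcu : ∀ n : ℕ, i * (i * j) ^ n * i⁻¹ = ((i * j) ^ n)⁻¹ := fun n => by
    rw [← conj_pow, ← inv_pow]
    congr 1
    rw [mul_inv_rev, hiv, hjv, ← mul_assoc, hii, one_mul]
  have fin : ∀ z ∈ M, z * z = 1 → z ≠ 1 → z * i = i * z → z * j = j * z →
      (∃ k : F, ∃ a₀ ∈ ratVec F₀ P, c = k • a₀) ∨ (∃ b ∈ ratVec F₀ P, f b b ≠ 0 ∧ f b m = 0 ∧ f c b = 0) ∨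
        z = i := by
    intro z hz hzz hz1 hzi hzj
    rcases inv_case C hN R hi hz hzz hz1 hzi with h | ⟨b, hb, hb0, hbm, hzb⟩
    · exact Or.inr (Or.inr h)
    have hzc := isHom_fixed hU C.two hj (x := act z c) (by rw [← act_mul, ← hzj, act_mul, isHom_centre hU hc0 hj])
    generalize f (act z c) c / f c c = K at hzc
    by_cases hK : K = 1
    · rw [hK, one_smul] at hzc
      exact Or.inl ⟨_, b, hb, isHom_fixed hU C.two hzb hzc⟩
    · refine Or.inr (Or.inl ⟨b, hb, hb0, hbm, ?_⟩)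
      have := mem_uiso.1 (C.iso hz) c b
      rw [hzc, isHom_centre hU hb0 hzb, smul_left hU] at this
      by_contra hne
      exact hK (mul_right_cancel₀ hne (by rw [this, one_mul]))
  rcases Nat.even_or_odd (orderOf (i * j)) with ⟨n, hn⟩ | ⟨n, hn⟩
  · have hn0 : 0 < n := by
      have : 0 < orderOf (i * j) := orderOf_pos _
      omega
    obtain ⟨Z, hZ⟩ : ∃ Z, Z = (i * j) ^ n := ⟨_, rfl⟩
    have hZZ : Z * Z = 1 := by rw [hZ, ← pow_add, ← hn, pow_orderOf_eq_one]
    have hZ1 : Z ≠ 1 := fun h => by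
      have := Nat.le_of_dvd hn0 (orderOf_dvd_of_pow_eq_one (hZ.symm.trans h))
      omega
    have hZi : Z * i = i * Z := by
      have h1 := hcu n
      rw [← hZ, inv_eq_of_mul_eq_one_right hZZ, mul_inv_eq_iff_eq_mul] at h1
      exact h1.symm
    have hZj : Z * j = j * Z := by
      have h1 : Z * (i * j) = i * j * Z := by rw [hZ, ← pow_succ, ← pow_succ']
      rw [← mul_assoc, hZi, mul_assoc, mul_assoc] at h1
      exact mul_left_cancel h1
    rcases fin Z (hZ ▸ M.pow_mem (M.mul_mem hiM hjM) n) hZZ hZ1 hZi hZj with h | h | h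
    · exact Or.inl h
    · exact Or.inr h
    -- then `j` commutes with `i`
    have hj1 : j ≠ 1 := fun h1 => by
      have e := isHom_fixed hU C.two hj (x := l) (by rw [h1, act_one])
      have : f c c = 0 := by
        have hll := hf.ll
        rw [e, smul_left hU, smul_right hU] at hll
        have hk : f l c / f c c ≠ 0 := fun h0 => hf.l0 hU (by rw [e, h0, zero_smul])
        exact (mul_eq_zero.1 ((mul_eq_zero.1 hll).resolve_left hk)).resolve_left ((map_ne_zero σ).2 hk)
      exact hc0 this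
    rw [h] at hZj
    rcases fin j hjM hjj hj1 hZj.symm rfl with h | h | h
    · exact Or.inl h
    · exact Or.inr h
    · exfalso
      refine hnf ⟨1, M.one_mem, ?_⟩
      refine ⟨f m c / f c c, ?_⟩
      rw [act_one]
      refine isHom_fixed hU C.two hj ?_
      rw [h, isHom_centre hU hm0 hi]
  · exfalso
    refine hnf ⟨(i * j) ^ n, M.pow_mem (M.mul_mem hiM hjM) n, ?_⟩
    have h1 : (i * j) ^ n * i = i * ((i * j) ^ n)⁻¹ := by
      rw [← hcu, ← mul_assoc, ← mul_assoc, hii, one_mul, hiv]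
    have e : ((i * j) ^ n)⁻¹ * ((i * j) ^ n)⁻¹ = i * j := by
      rw [← mul_inv_rev, ← pow_add, inv_eq_iff_mul_eq_one, ← pow_succ, ← two_mul, ← hn, pow_orderOf_eq_one]
    have hconj : (i * j) ^ n * i * ((i * j) ^ n)⁻¹ = j := by
      rw [h1, mul_assoc, e, ← mul_assoc, hii, one_mul]
    refine ⟨_, isHom_fixed hU C.two hj ?_⟩
    rw [← act_mul, ← mul_inv_eq_iff_eq_mul.1 hconj, act_mul, isHom_centre hU hm0 hi]

/-- elliptic points go to rational points -/
theorem ell_image (hN : NoFlag C) {a : ι → F} (ha : Ell f F₀ P a) {g : GL ι F} (hg : g ∈ M) :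
    ∃ k : F, ∃ a₀ ∈ ratVec F₀ P, act g a = k • a₀ := by
  have hU := C.unit
  obtain ⟨l, l', m, d, R⟩ := exists_rframe C
  have hf := R.frame
  rcases key C hN R ha hg with h | ⟨b, hb, hb0, hbm, hcb⟩
  · exact h
  have hs := sym_par C R F₀.one_mem
  have R₁ := rframe_map C R (g := heis hU l m 1 (-(d * 1 * 1) / 2)) (heis_mem hU hf hs)
    (fun x hx => sym_rat C R F₀.one_mem hx)
  rcases key C hN R₁ ha hg with h | ⟨b', hb', hb'0, hb'm, hcb'⟩
  · exact h
  have hdF := d_mem C R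
  obtain ⟨A, B, D, hc⟩ : ∃ A B D : F, act g a = A • l + B • l' + D • m := ⟨_, _, _, hf.expand hU _⟩
  obtain ⟨p, q, r, hb₁, hp, hq, hr⟩ : ∃ p q r : F, b = p • l + q • l' + r • m ∧ p ∈ F₀ ∧ q ∈ F₀ ∧ r ∈ F₀ :=
    ⟨_, _, _, hf.expand hU b, C.rat _ hb _ R.rl', C.rat _ hb _ R.rl, F₀.div_mem (C.rat _ hb _ R.rm) hdF⟩
  obtain ⟨p', q', r', hb₂, hp', hq', hr'⟩ : ∃ p q r : F, b' = p • l + q • l' + r • m ∧ p ∈ F₀ ∧ q ∈ F₀ ∧ r ∈ F₀ :=
    ⟨_, _, _, hf.expand hU b', C.rat _ hb' _ R.rl', C.rat _ hb' _ R.rl, F₀.div_mem (C.rat _ hb' _ R.rm) hdF⟩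
  rw [heis_m hU hf, map_one, mul_one] at hb'm
  rw [hc, hb₁] at hcb
  rw [hc, hb₂] at hcb'
  rw [hb₁] at hbm hb0
  rw [hb₂] at hb'm hb'0
  simp only [add_left hU, add_right hU, sub_right hU, smul_left hU, smul_right hU, hf.ll, hf.ll', hf.l'l hU,
    hf.l'l', hf.lm, hf.l'm, hf.ml hU, hf.ml' hU, hf.mm, real C hp, real C hq, real C hr, real C hp',
    real C hq', real C hr', real C hdF] at hcb hcb' hbm hb'm hb0 hb'0
  have hr0 : r = 0 := (mul_eq_zero.1 (show r * d = 0 by linear_combination hbm)).resolve_right hf.d0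
  have hrq : r' = q' := mul_right_cancel₀ hf.d0 (by linear_combination hb'm)
  have hp0 : p ≠ 0 := fun h => hb0 (by rw [h, hr0]; ring)
  have hq'0 : q' ≠ 0 := fun h => hb'0 (by rw [hrq, h]; ring)
  rw [hr0] at hcb
  rw [hrq] at hcb'
  have hB : B = A * (-q / p) := by field_simp; linear_combination hcb
  have hD : D = A * (-(q' + (-q / p) * p') / (q' * d)) := by
    have h1 : D * (q' * d) = -(A * q' + B * p') := by linear_combination hcb'
    have hd := hf.d0
    rw [eq_comm, ← mul_div_assoc, div_eq_iff (mul_ne_zero hq'0 hd), h1, hB]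
    ring
  refine ⟨A, l + (-q / p) • l' + (-(q' + (-q / p) * p') / (q' * d)) • m, ?_, ?_⟩
  · exact Submodule.add_mem _ (Submodule.add_mem _ R.rl (ratVec_smul (F₀.div_mem (F₀.neg_mem hq) hp) R.rl'))
      (ratVec_smul (F₀.div_mem (F₀.neg_mem (F₀.add_mem hq' (F₀.mul_mem (F₀.div_mem (F₀.neg_mem hq) hp) hp')))
        (F₀.mul_mem hq' hdF)) R.rm)
  · rw [hc, hB, hD, smul_add, smul_add, smul_smul, smul_smul]

/-- every element lies in the subfield group -/
theorem mem_of_noFlag (hN : NoFlag C) {g : GL ι F} (hg : g ∈ M) : g ∈ Cfsg.Geo.subfieldSubgroup F₀ P := by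
  have hU := C.unit
  obtain ⟨l, l', m, d, R⟩ := exists_rframe C
  have hf := R.frame
  have hd := hf.d0
  have hdF := d_mem C R
  have h2 := C.two
  obtain ⟨ν, hν, hns⟩ := exists_nonsq C
  have hν0 : ν ≠ 0 := fun h => hns 0 F₀.zero_mem (by rw [h, zero_mul])
  obtain ⟨t, ht⟩ : ∃ t, t = ν * d / 2 := ⟨_, rfl⟩
  have htF : t ∈ F₀ := ht ▸ F₀.div_mem (F₀.mul_mem hν hdF) (mem_two C)
  have ht0 : t ≠ 0 := ht ▸ div_ne_zero (mul_ne_zero hν0 hd) h2
  obtain ⟨a, hadef⟩ : ∃ a, a = l + t • l' := ⟨_, rfl⟩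
  have har : a ∈ ratVec F₀ P := hadef ▸ Submodule.add_mem _ R.rl (ratVec_smul htF R.rl')
  have hell : Ell f F₀ P a := by
    refine ⟨har, ?_, fun v hv hvv hva => ?_⟩
    · simp only [hadef, add_left hU, add_right hU, smul_left hU, smul_right hU, hf.ll, hf.ll', hf.l'l hU,
        hf.l'l', real C htF]
      rw [show 0 + t * 1 + (t * 1 + t * (t * 0)) = 2 * t by ring]
      exact mul_ne_zero h2 ht0
    obtain ⟨A, B, D, hexp, hA, hB, hD⟩ : ∃ A B D : F, v = A • l + B • l' + D • m ∧ A ∈ F₀ ∧ B ∈ F₀ ∧ D ∈ F₀ :=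
      ⟨_, _, _, hf.expand hU v, C.rat _ hv _ R.rl', C.rat _ hv _ R.rl, F₀.div_mem (C.rat _ hv _ R.rm) hdF⟩
    rw [hexp, hadef] at hva
    rw [hexp] at hvv
    simp only [add_left hU, add_right hU, smul_left hU, smul_right hU, hf.ll, hf.ll', hf.l'l hU,
      hf.l'l', hf.lm, hf.l'm, hf.ml hU, hf.ml' hU, hf.mm, real C hA, real C hB, real C hD, real C htF] at hva hvv
    have hBA : B = -(t * A) := by linear_combination hva
    rw [hBA] at hvv
    have h0 : d * (D * D - ν * (A * A)) = 0 := by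
      have e : 2 * t = ν * d := by rw [ht]; field_simp
      linear_combination hvv + A * A * e
    have h1 : D * D = ν * (A * A) := sub_eq_zero.1 ((mul_eq_zero.1 h0).resolve_left hd)
    rcases eq_or_ne A 0 with hA0 | hA0
    · rw [hA0] at h1
      have hD0 : D = 0 := mul_self_eq_zero.1 (by rw [h1]; ring)
      rw [hexp, hBA, hA0, hD0]; simp
    · exfalso
      refine hns (D / A) (F₀.div_mem hD hA) ?_
      field_simp
      linear_combination h1
  obtain ⟨s, hs, hs0, hs8⟩ : ∃ s ∈ F₀, s ≠ 0 ∧ 2 + t * (-(d * s * s) / 2) ≠ 0 := by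
    obtain ⟨μ, hμ, hμ0, hμ1⟩ := exists_mu C R
    by_cases h : 2 + t * (-(d * 1 * 1) / 2) = 0
    · refine ⟨μ, hμ, hμ0, fun h' => hμ1 ?_⟩
      have e : t * d * (μ * μ - 1) = 0 := by
        field_simp at h h'
        linear_combination h - h'
      exact sub_eq_zero.1 ((mul_eq_zero.1 e).resolve_left (mul_ne_zero ht0 hd))
    · exact ⟨1, F₀.one_mem, one_ne_zero, h⟩
  have hmove : ∀ u ∈ F₀, Ell f F₀ P (act (heis hU l m u (-(d * u * u) / 2)) a) := by
    intro u hu
    have hX := heis_mem hU hf (sym_par C R hu)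
    refine ⟨sym_rat C R hu har, by rw [mem_uiso.1 hX]; exact hell.2.1, fun v hv hvv hva => ?_⟩
    have hinv : ∀ x, act (heis hU l m u (-(d * u * u) / 2))
        (act (heis hU l m (-u) (-(d * -u * -u) / 2)) x) = x := fun x => by
      rw [← act_mul, heis_mul hU hf, add_neg_cancel, heis_eq_utv hU hf, real C hu,
        show -(d * u * u) / 2 + -(d * -u * -u) / 2 - d * u * -u = 0 by field_simp; ring,
        utv_zero hU, act_one]
    have h' := hell.2.2 _ (sym_rat C R (F₀.neg_mem hu) hv)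
      ((mem_uiso.1 (heis_mem hU hf (sym_par C R (F₀.neg_mem hu))) v v).trans hvv) (by
        rw [← mem_uiso.1 hX, hinv, hva])
    rw [← hinv v, h', map_zero]
  obtain ⟨k, a₀, ha₀, hka⟩ := ell_image C hN hell hg
  have hk0 : k ≠ 0 := fun h => hell.2.1 (by
    rw [act_injective g (show act g a = act g 0 by rw [hka, h, zero_smul, map_zero]), zero_left hU])
  have himg : ∀ u ∈ F₀, 2 + t * (-(d * u * u) / 2) ≠ 0 →
      k⁻¹ • act g (act (heis hU l m u (-(d * u * u) / 2)) a) ∈ ratVec F₀ P := by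
    intro u hu hu8
    obtain ⟨k', a', ha', hk'⟩ := ell_image C hN (hmove u hu) hg
    rw [hk', smul_smul, ← div_eq_inv_mul]
    refine ratVec_smul ?_ ha'
    have h1 := mem_uiso.1 (C.iso hg) a (act (heis hU l m u (-(d * u * u) / 2)) a)
    have hne : f a (act (heis hU l m u (-(d * u * u) / 2)) a) ≠ 0 := by
      have hz : -(d * u * u) / 2 ∈ F₀ := F₀.div_mem (F₀.neg_mem (F₀.mul_mem (F₀.mul_mem hdF hu) hu)) (mem_two C)
      simp only [hadef, map_add, map_smul, heis_l hU hf, heis_l' hU hf, add_left hU, add_right hU,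
        smul_left hU, smul_right hU, hf.ll, hf.ll', hf.l'l hU, hf.l'l', hf.lm, hf.l'm, real C htF, real C hu,
        real C hz]
      intro h0
      exact mul_ne_zero ht0 hu8 (by linear_combination h0)
    rw [hka, hk', smul_left hU, smul_right hU, ← mul_assoc] at h1
    have hf0 : f a₀ a' ≠ 0 := fun h0 => hne (by rw [← h1, h0, mul_zero])
    have e1 : k * σ k' ∈ F₀ := by
      rw [eq_div_of_mul_eq hf0 h1]
      exact F₀.div_mem (C.rat _ har _ (sym_rat C R hu har)) (C.rat _ ha₀ _ ha')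
    have e2 : k * σ k ∈ F₀ := (C.fixed _).2 (by rw [map_mul, hU.involutive, mul_comm])
    have e3 := F₀.div_mem e1 e2
    rw [mul_div_mul_left _ _ hk0, ← map_div₀] at e3
    have := real C e3
    rw [hU.involutive] at this
    rwa [← this] at e3
  have ia : k⁻¹ • act g a ∈ ratVec F₀ P := by rw [hka, inv_smul_smul₀ hk0]; exact ha₀
  have ip := himg s hs hs8
  have iq := himg (-s) (F₀.neg_mem hs) (by rwa [show -(d * -s * -s) = -(d * s * s) by ring])
  obtain ⟨Z, hZ⟩ : ∃ Z, Z = -(d * s * s) / 2 := ⟨_, rfl⟩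
  rw [show -(d * -s * -s) = -(d * s * s) by ring, ← hZ] at iq
  rw [← hZ] at ip
  have hZ0 : Z ≠ 0 := hZ ▸ div_ne_zero (neg_ne_zero.2 (mul_ne_zero (mul_ne_zero hd hs0) hs0)) h2
  have hZF : Z ∈ F₀ := hZ ▸ F₀.div_mem (F₀.neg_mem (F₀.mul_mem (F₀.mul_mem hdF hs) hs)) (mem_two C)
  obtain ⟨p, hp⟩ : ∃ p, p = act (heis hU l m s Z) a := ⟨_, rfl⟩
  obtain ⟨q, hq⟩ : ∃ q, q = act (heis hU l m (-s) Z) a := ⟨_, rfl⟩
  rw [← hp] at ip
  rw [← hq] at iq
  have hp' : p = a + (t * s) • m + (t * Z) • l := by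
    rw [hp, hadef, map_add, map_smul, heis_l hU hf, heis_l' hU hf]; module
  have hq' : q = a - (t * s) • m + (t * Z) • l := by
    rw [hq, hadef, map_add, map_smul, heis_l hU hf, heis_l' hU hf]; module
  have him : k⁻¹ • act g m ∈ ratVec F₀ P := by
    have e : m = (2 * t * s)⁻¹ • (p - q) := by
      rw [eq_inv_smul_iff₀ (mul_ne_zero (mul_ne_zero h2 ht0) hs0), hp', hq']; module
    rw [e, map_smul, map_sub, smul_comm, smul_sub]
    exact ratVec_smul (F₀.inv_mem (F₀.mul_mem (F₀.mul_mem (mem_two C) htF) hs)) (Submodule.sub_mem _ ip iq)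
  have hil : k⁻¹ • act g l ∈ ratVec F₀ P := by
    have e : l = (2 * t * Z)⁻¹ • (p + q - (2 : F) • a) := by
      rw [eq_inv_smul_iff₀ (mul_ne_zero (mul_ne_zero h2 ht0) hZ0), hp', hq']; module
    rw [e, map_smul, map_sub, map_add, map_smul, smul_comm, smul_sub, smul_add, smul_comm k⁻¹ (2 : F)]
    exact ratVec_smul (F₀.inv_mem (F₀.mul_mem (F₀.mul_mem (mem_two C) htF) hZF))
      (Submodule.sub_mem _ (Submodule.add_mem _ ip iq) (ratVec_smul (mem_two C) ia))
  have hil' : k⁻¹ • act g l' ∈ ratVec F₀ P := by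
    have e : l' = t⁻¹ • (a - l) := by
      rw [eq_inv_smul_iff₀ ht0, hadef, add_sub_cancel_left]
    rw [e, map_smul, map_sub, smul_comm, smul_sub]
    exact ratVec_smul (F₀.inv_mem htF) (Submodule.sub_mem _ ia hil)
  refine mem_subfieldSubgroup F₀ P hk0 fun x hx => ?_
  rw [hf.expand hU x, map_add, map_add, map_smul, map_smul, map_smul, smul_add, smul_add, smul_comm k⁻¹,
    smul_comm k⁻¹, smul_comm k⁻¹]
  exact Submodule.add_mem _ (Submodule.add_mem _ (ratVec_smul (C.rat _ hx _ R.rl') hil)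
    (ratVec_smul (C.rat _ hx _ R.rl) hil')) (ratVec_smul (F₀.div_mem (C.rat _ hx _ R.rm) hdF) him)

end Cfsg.Agent.MaxCl.SU3.Orth

namespace Cfsg.Agent.MaxCl.SU3

open Cfsg Cfsg.Agent.MaxCl Cfsg.Agent.MaxCl.Unit

/-- the subfield groups of orthogonal type are maximal in SU_3 -/
theorem orthSubfield_maximal {F : Type*} [Field F] [Fintype F] (q : ℕ) (hF : Fintype.card F = q ^ 2) (hodd : Odd q) (h7 : 7 ≤ q) (F₀ : _root_.Subfield F) (hcard : Fintype.card F = Nat.card F₀ ^ 2) (P : Matrix.GeneralLinearGroup (Fin 3) F) (hP : Cfsg.Geo.IsFormRationalStructure (Cfsg.hermForm 3 F q) F₀ 1 P) : Cfsg.Geo.IsMaximalIn (Cfsg.GU 3 F q ⊓ Cfsg.Geo.specialLinear (Fin 3) F) (Cfsg.Geo.subfieldSubgroup F₀ P ⊓ (Cfsg.GU 3 F q ⊓ Cfsg.Geo.specialLinear (Fin 3) F)) := by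
  classical
  obtain ⟨τ, hτ, hf⟩ := hermForm_isUnitary 3 q hF
  have hgen := su_le_of_utv_three q hF (by omega) hτ hf
  set f := Cfsg.hermForm 3 F q
  change Cfsg.Geo.IsMaximalIn (uiso f ⊓ _) (_ ⊓ (uiso f ⊓ _))
  haveI : Fintype F₀ := Fintype.ofFinite _
  have hq : Fintype.card F₀ = q := by
    rw [hF, Nat.card_eq_fintype_card (α := F₀)] at hcard
    exact ((pow_left_inj₀ (Nat.zero_le _) (Nat.zero_le _) (two_ne_zero)).1 hcard).symm
  have hne : ∃ a, τ a ≠ a := exists_moved hf.ne_refl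
  have hfix : ∀ a : F, a ∈ F₀ ↔ τ a = a := by
    intro a
    have h1 : ∀ x ∈ F₀, τ x = x := fun x hx => by
      rw [hτ, ← hq]; exact congrArg Subtype.val (FiniteField.pow_card (⟨x, hx⟩ : F₀))
    refine ⟨h1 a, fun ha => ?_⟩
    by_contra haF
    obtain ⟨w, hw⟩ := hne
    have hbij : Function.Bijective (fun p : F₀ × F₀ => (p.1 : F) + p.2 * a) := by
      rw [Fintype.bijective_iff_injective_and_card, Fintype.card_prod, hF, hq, pow_two]
      refine ⟨fun p p' e => ?_, rfl⟩
      have e' : ((p.2 : F) - p'.2) * a = p'.1 - p.1 := by linear_combination e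
      by_cases hy : (p.2 : F) = p'.2
      · rw [hy, sub_self, zero_mul, eq_comm, sub_eq_zero] at e'
        exact Prod.ext (Subtype.ext e'.symm) (Subtype.ext hy)
      · refine absurd ?_ haF
        rw [show a = ((p'.1 : F) - p.1) / ((p.2 : F) - p'.2) by
          rw [eq_div_iff (sub_ne_zero.2 hy)]; linear_combination e']
        exact F₀.div_mem (F₀.sub_mem p'.1.2 p.1.2) (F₀.sub_mem p.2.2 p'.2.2)
    obtain ⟨⟨x, y⟩, rfl⟩ := hbij.2 w
    exact hw (by simp only [map_add, map_mul, h1 _ x.2, h1 _ y.2, ha])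
  have h2 : (2 : F) ≠ 0 := Ring.two_ne_zero fun hc => by
    have h0 := FiniteField.even_card_iff_char_two.1 hc
    obtain ⟨k, hk⟩ := hodd
    rw [hF, hk, pow_two] at h0
    simp [Nat.add_mod, Nat.mul_mod] at h0
  have hrat : ∀ x ∈ ratVec F₀ P, ∀ y ∈ ratVec F₀ P, f x y ∈ F₀ := by
    rintro _ ⟨u, hu, rfl⟩ _ ⟨v, hv, rfl⟩
    have := hP u v hu hv
    rwa [one_mul, ← Cfsg.Agent.MaxCl.act_apply, ← Cfsg.Agent.MaxCl.act_apply] at this
  have mk : ∀ M : Subgroup (GL (Fin 3) F),
      Cfsg.Geo.subfieldSubgroup F₀ P ⊓ (uiso f ⊓ Cfsg.Geo.specialLinear (Fin 3) F) ≤ M →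
      M ≤ uiso f ⊓ Cfsg.Geo.specialLinear (Fin 3) F → Orth.Ctx τ f F₀ P M := fun M h hi =>
    ⟨hf, Fintype.card_fin 3, h2, hrat, hfix, by rw [Nat.card_eq_fintype_card, hq]; exact h7,
      hi.trans inf_le_left, hi.trans inf_le_right, fun g hg hd hx =>
      h ⟨mem_subfieldSubgroup F₀ P one_ne_zero fun x hx' => by rw [inv_one, one_smul]; exact hx x hx', hg, hd⟩⟩
  have hlt : Cfsg.Geo.subfieldSubgroup F₀ P ⊓ (uiso f ⊓ Cfsg.Geo.specialLinear (Fin 3) F) <
      uiso f ⊓ Cfsg.Geo.specialLinear (Fin 3) F := by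
    refine lt_of_le_of_ne inf_le_right fun heq => ?_
    have C := mk (uiso f ⊓ Cfsg.Geo.specialLinear (Fin 3) F) inf_le_right le_rfl
    obtain ⟨l, l', m, d, R⟩ := Orth.exists_rframe C
    have hR := R.frame
    obtain ⟨c, -, hcs, hcF⟩ := Orth.skew_ne C hne
    have hmem : utv hf l c ∈ uiso f ⊓ Cfsg.Geo.specialLinear (Fin 3) F :=
      ⟨utv_mem hf hR.ll hcs, det_ptv hf (by rw [smul_right hf, hR.ll, mul_zero])⟩
    obtain ⟨γ, hγ⟩ := exists_of_mem_subfieldSubgroup F₀ P ((inf_eq_right.1 heq) hmem)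
    obtain ⟨y, hy, ey⟩ := hγ l R.rl
    obtain ⟨y', hy', ey'⟩ := hγ l' R.rl'
    rw [act_utv hf hR.ll, hR.ll, mul_zero, zero_smul, add_zero] at ey
    rw [act_utv hf hR.ll, hR.l'l hf, mul_one] at ey'
    have e1 := congrArg (fun x => f x l') ey
    have e2 := congrArg (fun x => f x l') ey'
    simp only [add_left hf, smul_left hf, hR.ll', hR.l'l', mul_one, zero_add] at e1 e2
    have hγF : γ ∈ F₀ := by
      rw [eq_div_of_mul_eq (right_ne_zero_of_mul_eq_one e1.symm) e1.symm]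
      exact F₀.div_mem F₀.one_mem (hrat y hy l' R.rl')
    exact hcF (e2 ▸ F₀.mul_mem hγF (hrat y' hy' l' R.rl'))
  refine ⟨hlt, fun M hM1 hM2 => ?_⟩
  have C := mk M hM1 hM2
  by_cases hN : Orth.NoFlag C
  · exact Or.inl (le_antisymm (le_inf (fun g hg => Orth.mem_of_noFlag C hN hg) hM2) hM1)
  · exact Or.inr (le_antisymm hM2 (hgen M fun u c hu hc => Orth.utv_all C hN hne u c hu hc))

end Cfsg.Agent.MaxCl.SU3
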